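import Groth.Prelude.Def_RDer

/-!
# Lemmas on the homology comparison and uniqueness of maps into complexes of injectives
-/

set_option autoImplicit false
set_option backward.isDefEq.respectTransparency false
set_option linter.style.haveILetI false

universe v₁ v₂ v₃ u₁ u₂ u₃

open CategoryTheory CategoryTheory.Limits HomologicalComplex

noncomputable section

namespace Groth.Agent.BCPaste17

section Comparison

variable {A : Type u₁} [Category.{v₁} A] [Abelian A] {B : Type u₂} [Category.{v₂} B] [Abelian B]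
  {C : Type u₃} [Category.{v₃} C] [Abelian C] {ι' : Type*} {c : ComplexShape ι'} (i : ι')

theorem cmp_naturality (Ψ : B ⥤ C) [Ψ.Additive] [PreservesFiniteLimits Ψ] {K L : HomologicalComplex B c} (φ : K ⟶ L) :
    homologyMap ((Ψ.mapHomologicalComplex c).map φ) i ≫ RDer.homologyComparison Ψ L i =
      RDer.homologyComparison Ψ K i ≫ Ψ.map (homologyMap φ i) := by
  have hc : cyclesMap ((Ψ.mapHomologicalComplex c).map φ) i ≫ RDer.cyclesComparison Ψ L i =
      RDer.cyclesComparison Ψ K i ≫ Ψ.map (cyclesMap φ i) := by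
    rw [← cancel_mono (Ψ.map (L.iCycles i)), Category.assoc, RDer.cyclesComparison_i, cyclesMap_i, Category.assoc,
      ← Ψ.map_comp, cyclesMap_i, Ψ.map_comp, RDer.cyclesComparison_i_assoc]
    rfl
  rw [← cancel_epi (((Ψ.mapHomologicalComplex c).obj K).homologyπ i), homologyπ_naturality_assoc,
    RDer.homologyπ_homologyComparison, RDer.homologyπ_homologyComparison_assoc, reassoc_of% hc, ← Ψ.map_comp,
    ← Ψ.map_comp, homologyπ_naturality]

theorem cmp_natTrans {Ψ Ψ' : B ⥤ C} [Ψ.Additive] [PreservesFiniteLimits Ψ] [Ψ'.Additive] [PreservesFiniteLimits Ψ']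
    (α : Ψ ⟶ Ψ') (K : HomologicalComplex B c) :
    homologyMap ((NatTrans.mapHomologicalComplex α c).app K) i ≫ RDer.homologyComparison Ψ' K i =
      RDer.homologyComparison Ψ K i ≫ α.app (K.homology i) := by
  have hc : cyclesMap ((NatTrans.mapHomologicalComplex α c).app K) i ≫ RDer.cyclesComparison Ψ' K i =
      RDer.cyclesComparison Ψ K i ≫ α.app (K.cycles i) := by
    rw [← cancel_mono (Ψ'.map (K.iCycles i)), Category.assoc, RDer.cyclesComparison_i, cyclesMap_i, Category.assoc,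
      ← α.naturality, RDer.cyclesComparison_i_assoc]
    rfl
  rw [← cancel_epi (((Ψ.mapHomologicalComplex c).obj K).homologyπ i), homologyπ_naturality_assoc,
    RDer.homologyπ_homologyComparison, RDer.homologyπ_homologyComparison_assoc, reassoc_of% hc, α.naturality]

theorem cmp_comp (Ψ₁ : A ⥤ B) (Ψ₂ : B ⥤ C) [Ψ₁.Additive] [PreservesFiniteLimits Ψ₁] [Ψ₂.Additive]
    [PreservesFiniteLimits Ψ₂] [PreservesFiniteLimits (Ψ₁ ⋙ Ψ₂)] (K : HomologicalComplex A c) :
    RDer.homologyComparison Ψ₂ ((Ψ₁.mapHomologicalComplex c).obj K) i ≫ Ψ₂.map (RDer.homologyComparison Ψ₁ K i) =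
      (show ((Ψ₂.mapHomologicalComplex c).obj ((Ψ₁.mapHomologicalComplex c).obj K)).homology i ⟶
          Ψ₂.obj (Ψ₁.obj (K.homology i)) from RDer.homologyComparison (Ψ₁ ⋙ Ψ₂) K i) := by
  have hc : RDer.cyclesComparison Ψ₂ ((Ψ₁.mapHomologicalComplex c).obj K) i ≫ Ψ₂.map (RDer.cyclesComparison Ψ₁ K i) =
      RDer.cyclesComparison (Ψ₁ ⋙ Ψ₂) K i := by
    refine (cancel_mono (Ψ₂.map (Ψ₁.map (K.iCycles i)))).1 ?_
    rw [Category.assoc, ← Ψ₂.map_comp, RDer.cyclesComparison_i, RDer.cyclesComparison_i]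
    exact (RDer.cyclesComparison_i (Ψ₁ ⋙ Ψ₂) K i).symm
  refine (cancel_epi (((Ψ₂.mapHomologicalComplex c).obj ((Ψ₁.mapHomologicalComplex c).obj K)).homologyπ i)).1 ?_
  rw [RDer.homologyπ_homologyComparison_assoc, ← Ψ₂.map_comp, RDer.homologyπ_homologyComparison, Ψ₂.map_comp,
    ← Category.assoc, hc]
  exact (RDer.homologyπ_homologyComparison (Ψ₁ ⋙ Ψ₂) K i).symm

end Comparison

section Unique

variable {A : Type u₁} [Category.{v₁} A] [Abelian A] {Y : A} (I : InjectiveResolution Y) (L : CochainComplex A ℕ)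
  [hL : ∀ n, Injective (L.X n)]

theorem homologyMap_eq_zero_of_ι {B : Type u₂} [Category.{v₂} B] [Abelian B] (T : A ⥤ B) [T.Additive]
    (f : I.cocomplex ⟶ L) (h : I.ι.f 0 ≫ f.f 0 = 0) (q : ℕ) :
    homologyMap ((T.mapHomologicalComplex _).map f) q = 0 := by
  let z : I.cocomplex.X 1 ⟶ L.X 0 := I.exact₀.descToInjective (f.f 0) h
  have hz : I.cocomplex.d 0 1 ≫ z = f.f 0 := I.exact₀.comp_descToInjective _ _
  let o : I.cocomplex.X 2 ⟶ L.X 1 := (I.exact_succ 0).descToInjective (f.f 1 - z ≫ L.d 0 1) (by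
    rw [Preadditive.comp_sub, reassoc_of% hz, Hom.comm, sub_self])
  have ho : I.cocomplex.d 1 2 ≫ o = f.f 1 - z ≫ L.d 0 1 := (I.exact_succ 0).comp_descToInjective _ _
  let H : Homotopy f 0 := Homotopy.mkCoinductive _ z (by simp [hz]) o (by simp [ho])
    (fun n ⟨g, g', w⟩ => ⟨(I.exact_succ (n + 1)).descToInjective (f.f (n + 2) - g' ≫ L.d _ _) (by
      rw [Preadditive.comp_sub, ← Hom.comm, w, Preadditive.add_comp, Category.assoc, Category.assoc,
        HomologicalComplex.d_comp_d, comp_zero]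
      abel), by
        rw [(I.exact_succ (n + 1)).comp_descToInjective]
        abel⟩)
  rw [(T.mapHomotopy H).homologyMap_eq q, Functor.map_zero, homologyMap_zero]

theorem homologyMap_eq_of_ι {B : Type u₂} [Category.{v₂} B] [Abelian B] (T : A ⥤ B) [T.Additive]
    (f g : I.cocomplex ⟶ L) (h : I.ι.f 0 ≫ f.f 0 = I.ι.f 0 ≫ g.f 0) (q : ℕ) :
    homologyMap ((T.mapHomologicalComplex _).map f) q = homologyMap ((T.mapHomologicalComplex _).map g) q := by
  have := homologyMap_eq_zero_of_ι I L T (f - g) (by rw [sub_f_apply, Preadditive.comp_sub, h, sub_self]) q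
  rwa [Functor.map_sub, homologyMap_sub, sub_eq_zero] at this

end Unique

end Groth.Agent.BCPaste17
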