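import Groth.Agent.BCPaste17.Comparison
import Mathlib.CategoryTheory.Abelian.RightDerived

/-!
# Comparison of homology along exact functors; resolutions along exact functors
-/

set_option autoImplicit false
set_option backward.isDefEq.respectTransparency false
set_option linter.style.haveILetI false

universe v₁ v₂ v₃ u₁ u₂ u₃

open CategoryTheory CategoryTheory.Limits HomologicalComplex

noncomputable section

namespace Groth.Agent.BCPaste17

variable {B : Type u₂} [Category.{v₂} B] [Abelian B] {C : Type u₃} [Category.{v₃} C] [Abelian C]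

theorem isIso_homologyComparison {ι' : Type*} {c : ComplexShape ι'} (Ψ : B ⥤ C) [Ψ.Additive]
    [PreservesFiniteLimits Ψ] [PreservesFiniteColimits Ψ] (K : HomologicalComplex B c) (i : ι') :
    IsIso (RDer.homologyComparison Ψ K i) := by
  have h1 := KernelFork.mapIsLimit _ (K.cyclesIsKernel i (c.next i) rfl) Ψ
  have h2 := ((Ψ.mapHomologicalComplex c).obj K).cyclesIsKernel i (c.next i) rfl
  haveI : IsIso (RDer.cyclesComparison Ψ K i) :=
    (IsLimit.conePointUniqueUpToIso h2 (KernelFork.mapIsLimit _ (K.cyclesIsKernel i (c.next i) rfl) Ψ)).isIso_hom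
  let inv' : Ψ.obj (K.homology i) ⟶ ((Ψ.mapHomologicalComplex c).obj K).homology i :=
    (CokernelCofork.mapIsColimit _ (K.homologyIsCokernel (c.prev i) i rfl) Ψ).desc
      (CokernelCofork.ofπ (inv (RDer.cyclesComparison Ψ K i) ≫ ((Ψ.mapHomologicalComplex c).obj K).homologyπ i) (by
        have h := RDer.toCycles_cyclesComparison Ψ K i
        rw [← h, Category.assoc, IsIso.hom_inv_id_assoc, toCycles_comp_homologyπ]))
  have hfac : Ψ.map (K.homologyπ i) ≫ inv' =
      inv (RDer.cyclesComparison Ψ K i) ≫ ((Ψ.mapHomologicalComplex c).obj K).homologyπ i :=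
    (CokernelCofork.mapIsColimit _ (K.homologyIsCokernel (c.prev i) i rfl) Ψ).fac _ WalkingParallelPair.one
  refine ⟨inv', ?_, ?_⟩
  · rw [← cancel_epi (((Ψ.mapHomologicalComplex c).obj K).homologyπ i), RDer.homologyπ_homologyComparison_assoc, hfac,
      IsIso.hom_inv_id_assoc, Category.comp_id]
  · haveI : Epi (Ψ.map (K.homologyπ i)) := inferInstance
    rw [← cancel_epi (Ψ.map (K.homologyπ i)), reassoc_of% hfac, RDer.homologyπ_homologyComparison,
      IsIso.inv_hom_id_assoc, Category.comp_id]

/-- An exact functor preserving injectives maps an injective resolution to one. -/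
def mapRes (Ψ : B ⥤ C) [Ψ.Additive] [PreservesFiniteLimits Ψ] [PreservesFiniteColimits Ψ]
    [Ψ.PreservesInjectiveObjects] {Y : B} (I : InjectiveResolution Y) : InjectiveResolution (Ψ.obj Y) where
  cocomplex := (Ψ.mapHomologicalComplex _).obj I.cocomplex
  injective n := Ψ.injective_obj_of_injective (I.injective n)
  ι := (singleMapHomologicalComplex Ψ (ComplexShape.up ℕ) 0).inv.app Y ≫ (Ψ.mapHomologicalComplex _).map I.ι
  quasiIso := by
    haveI := I.quasiIso
    haveI : Ψ.PreservesHomology := inferInstance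
    infer_instance

theorem mapRes_ι_f_zero (Ψ : B ⥤ C) [Ψ.Additive] [PreservesFiniteLimits Ψ] [PreservesFiniteColimits Ψ]
    [Ψ.PreservesInjectiveObjects] {Y : B} (I : InjectiveResolution Y) :
    (mapRes Ψ I).ι.f 0 = Ψ.map (I.ι.f 0) := by
  simp [mapRes, singleMapHomologicalComplex]

/-- A map of resolutions over an isomorphism induces isomorphisms on derived functors. -/
theorem isIso_homologyMap_of_ι [HasInjectiveResolutions B] (T : B ⥤ C) [T.Additive] {Y Z : B}
    (I : InjectiveResolution Y) (J : InjectiveResolution Z) (φ : Y ⟶ Z) [IsIso φ]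
    (γ : I.cocomplex ⟶ J.cocomplex) (hγ : I.ι.f 0 ≫ γ.f 0 = φ ≫ J.ι.f 0) (n : ℕ) :
    IsIso (homologyMap ((T.mapHomologicalComplex _).map γ) n) := by
  have h := InjectiveResolution.isoRightDerivedObj_hom_naturality φ I J γ hγ T n
  have : IsIso ((I.isoRightDerivedObj T n).hom ≫ homologyMap ((T.mapHomologicalComplex _).map γ) n) :=
    h ▸ (inferInstance : IsIso ((T.rightDerived n).map φ ≫ (J.isoRightDerivedObj T n).hom))
  exact IsIso.of_isIso_comp_left (I.isoRightDerivedObj T n).hom _

end Groth.Agent.BCPaste17
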