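import Groth.Agent.BCPaste17.Paste
import Groth.Agent.BCPaste17.ExactRes
import Groth.Agent.Et18.AcyclicN.BCMate
import Groth.Agent.Et18.JCont

/-!
# Etale base change in every degree
-/

set_option autoImplicit false
set_option backward.isDefEq.respectTransparency false
set_option backward.isDefEq.respectTransparency.types false
set_option linter.style.haveILetI false
set_option linter.unusedSimpArgs false
set_option maxHeartbeats 1000000

universe u

open CategoryTheory CategoryTheory.Limits AlgebraicGeometry HomologicalComplex Opposite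
open Groth.Agent.Et18 Groth.Agent.Et18.AcyclicN

noncomputable section

namespace Groth.Agent.BCPaste17

variable {X S X' S' : Scheme.{u}} (f : X ⟶ S) (g : S' ⟶ S) [Etale g] (f' : X' ⟶ S') (g' : X' ⟶ X) [Etale g']
  (hc : IsPullback g' f' f g) [EtShriek.JCont g] [EtShriek.JCont g']

instance restrAlong_additive {A B : Scheme.{u}} (a : A ⟶ B) [Etale a] [EtShriek.JCont a] :
    (EtShriek.restrAlong a).Additive :=
  (restrPushAdj a).left_adjoint_additive

/-- In degree zero the transposes of the base change maps agree. -/
theorem sq_unit (I : EtCoh.Ab X) :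
    (EtCoh.push f).map ((restrPushAdj g').unit.app I) ≫ (sq f g f' g' hc.w).app ((EtShriek.restrAlong g').obj I) =
      (restrPushAdj g).unit.app ((EtCoh.push f).obj I) ≫ (EtCoh.push g).map ((restrPushIso g f g' f' hc).hom.app I) := by
  refine InducedCategory.hom_ext (NatTrans.ext (funext fun W' => ?_))
  obtain ⟨W⟩ := W'
  show I.obj.map _ ≫ I.obj.map _ ≫ I.obj.map _ ≫ I.obj.map _ = I.obj.map _ ≫ (𝟙 _ ≫ I.obj.map _ ≫ 𝟙 _)
  simp only [Category.comp_id, Category.id_comp, ← Functor.map_comp, ← op_comp, Category.assoc]
  refine congrArg (fun m => I.obj.map (Quiver.Hom.op m)) ?_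
  refine hom_ext_bc _ _ _ _ ?_
  simp only [left_comp]
  dsimp [compBcIso, compBcAdj, EtShriek.compEtale]
  simp [left_comp]
  simp [EtCoh.bc]
  erw [pullbackLeftPullbackSndIso_inv_fst, congr_inv_fst, pullbackLeftPullbackSndIso_hom_fst,
    IsPullback.isoPullback_hom_fst_assoc]
  rfl

variable [PreservesFiniteLimits (EtCoh.pull g')] (F : EtCoh.Ab X)

/-- The transpose of the chosen map of resolutions. -/
def gamT : ((EtShriek.restrAlong g').mapHomologicalComplex _).obj (injectiveResolution F).cocomplex ⟶
    (injectiveResolution ((EtCoh.pull g').obj F)).cocomplex where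
  f n := ((restrPushAdj g').homEquiv _ _).symm ((gam g' F).f n)
  comm' m n _ := by
    simp only [Functor.mapHomologicalComplex_obj_d]
    rw [← Adjunction.homEquiv_naturality_left_symm, ← Adjunction.homEquiv_naturality_right_symm]
    exact congrArg _ ((gam g' F).comm m n)

/-- The comparison of complexes on `S'`. -/
def theta0 : ((EtShriek.restrAlong g).mapHomologicalComplex _).obj
      (((EtCoh.push f).mapHomologicalComplex (ComplexShape.up ℕ)).obj (injectiveResolution F).cocomplex) ⟶
    ((EtCoh.push f').mapHomologicalComplex _).obj (injectiveResolution ((EtCoh.pull g').obj F)).cocomplex :=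
  (NatTrans.mapHomologicalComplex (restrPushIso g f g' f' hc).hom (ComplexShape.up ℕ)).app _ ≫
    ((EtCoh.push f').mapHomologicalComplex _).map (gamT g' F)

theorem num_eq : num f g f' g' hc.w F =
    (NatTrans.mapHomologicalComplex (restrPushAdj g).unit (ComplexShape.up ℕ)).app _ ≫
      ((EtCoh.push g).mapHomologicalComplex _).map (theta0 f g f' g' hc F) := by
  refine HomologicalComplex.hom_ext _ _ fun n => ?_
  simp only [num, theta0, comp_f, Functor.mapHomologicalComplex_map_f, NatTrans.mapHomologicalComplex_app_f,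
    Functor.map_comp]
  have e : (gam g' F).f n = (restrPushAdj g').unit.app _ ≫ (EtCoh.push g').map ((gamT g' F).f n) :=
    ((((restrPushAdj g').homEquiv _ _).apply_symm_apply _).symm).trans ((restrPushAdj g').homEquiv_unit _ _ _)
  rw [e, Functor.map_comp, Category.assoc]
  have n1 := (sq f g f' g' hc.w).naturality ((gamT g' F).f n)
  refine (congrArg (_ ≫ ·) n1).trans ?_
  exact (Category.assoc _ _ _).symm.trans ((congrArg (· ≫ _) (sq_unit f g f' g' hc _)).trans (Category.assoc _ _ _))

theorem isIso_theta0 (q : ℕ) : IsIso (homologyMap (theta0 f g f' g' hc F) q) := by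
  haveI := Et18.extZero_preservesFiniteLimits g'
  haveI : (EtShriek.restrAlong g').PreservesInjectiveObjects :=
    Functor.preservesInjectiveObjects_of_adjunction_of_preservesMonomorphisms (EtShriek.extZeroAdj g')
  haveI : IsIso ((NatTrans.mapHomologicalComplex (restrPushIso g f g' f' hc).hom (ComplexShape.up ℕ)).app
      (injectiveResolution F).cocomplex) :=
    ((NatIso.mapHomologicalComplex (restrPushIso g f g' f' hc) (ComplexShape.up ℕ)).app _).isIso_hom
  have hγ : (mapRes (EtShriek.restrAlong g') (injectiveResolution F)).ι.f 0 ≫ (gamT g' F).f 0 =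
      (pullRestrIso g').inv.app F ≫ (injectiveResolution ((EtCoh.pull g').obj F)).ι.f 0 := by
    rw [mapRes_ι_f_zero]
    refine (((restrPushAdj g').homEquiv_naturality_left_symm _ _).symm).trans ?_
    rw [Equiv.symm_apply_eq, gam_zero, Adjunction.homEquiv_naturality_right, pullRestrIso,
      Adjunction.homEquiv_unit]
    simp [Adjunction.leftAdjointUniq_inv_app, Adjunction.unit_leftAdjointUniq_hom_app]
  haveI := isIso_homologyMap_of_ι (EtCoh.push f') (mapRes (EtShriek.restrAlong g') (injectiveResolution F))
    (injectiveResolution ((EtCoh.pull g').obj F)) ((pullRestrIso g').inv.app F) (gamT g' F) hγ q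
  rw [theta0, homologyMap_comp]
  haveI : IsIso (homologyMap ((NatTrans.mapHomologicalComplex (restrPushIso g f g' f' hc).hom (ComplexShape.up ℕ)).app
      (injectiveResolution F).cocomplex) q) :=
    inferInstanceAs (IsIso ((HomologicalComplex.homologyFunctor _ _ q).map _))
  infer_instance

theorem isIso_bcQ_of_etale (q : ℕ) : IsIso (EtBC.bcQ f g f' g' hc.w q F) := by
  let R := EtShriek.restrAlong g
  let C := ((EtCoh.push f).mapHomologicalComplex (ComplexShape.up ℕ)).obj (injectiveResolution F).cocomplex
  haveI : PreservesFiniteLimits (R ⋙ EtCoh.push g) := comp_preservesFiniteLimits _ _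
  haveI := isIso_homologyComparison R C q
  haveI := isIso_homologyComparison (𝟭 (EtCoh.Ab S)) C q
  haveI := isIso_theta0 f g f' g' hc F q
  have nat := cmp_natTrans q (restrPushAdj g).unit C
  have hcomp := cmp_comp q R (EtCoh.push g) C
  let x : (EtCoh.Rpush f q).obj F ⟶ C.homology q :=
    ((injectiveResolution F).isoRightDerivedObj (EtCoh.push f) q).hom ≫ RDer.homologyComparison (𝟭 (EtCoh.Ab S)) C q
  haveI : IsIso x := inferInstanceAs (IsIso (_ ≫ _))
  let y : R.obj (C.homology q) ⟶ (EtCoh.Rpush f' q).obj ((EtCoh.pull g').obj F) :=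
    inv (RDer.homologyComparison R C q) ≫ homologyMap (theta0 f g f' g' hc F) q ≫
      ((injectiveResolution ((EtCoh.pull g').obj F)).isoRightDerivedObj (EtCoh.push f') q).inv
  haveI : IsIso y := inferInstanceAs (IsIso (_ ≫ _ ≫ _))
  have e : EtBC.bcQAdj f g f' g' hc.w q F = (restrPushAdj g).homEquiv _ _ (R.map x ≫ y) := by
    rw [bcQAdj_eq, num_eq f g f' g' hc, homologyMap_comp, Category.assoc, reassoc_of% cmp_naturality q (EtCoh.push g),
      Adjunction.homEquiv_unit, Functor.map_comp]
    erw [← reassoc_of% (restrPushAdj g).unit.naturality x]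
    simp only [Functor.id_map, Functor.id_obj, x, y, Category.assoc]
    refine congrArg (_ ≫ ·) ?_
    erw [← reassoc_of% nat]
    refine congrArg (_ ≫ ·) ?_
    refine Eq.trans ?_ (congrArg (· ≫ _) hcomp)
    refine Eq.trans ?_ (Category.assoc _ _ _).symm
    refine congrArg (_ ≫ ·) ?_
    exact ((EtCoh.push g).map_comp _ _).symm.trans ((congrArg (EtCoh.push g).map
      (IsIso.hom_inv_id_assoc (RDer.homologyComparison R C q) _).symm).trans ((EtCoh.push g).map_comp _ _))
  have h2 : EtBC.bcQ f g f' g' hc.w q F = (pullRestrIso g).hom.app _ ≫ R.map x ≫ y := by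
    rw [EtBC.bcQ, e, Equiv.symm_apply_eq, Adjunction.homEquiv_unit, Adjunction.homEquiv_unit, Functor.map_comp]
    simp [pullRestrIso, R]
  rw [h2]
  infer_instance

end Groth.Agent.BCPaste17
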