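import Groth.Agent.BCPaste17.Paste
import Groth.Agent.BCPaste17.EtaleBC
import Groth.Agent.Et18.Stalk

/-!
# The base change maps in degree `q` are etale local on the source
-/

set_option autoImplicit false
set_option backward.isDefEq.respectTransparency false
set_option backward.isDefEq.respectTransparency.types false
set_option linter.style.haveILetI false
set_option maxHeartbeats 1000000

universe u

open CategoryTheory CategoryTheory.Limits AlgebraicGeometry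
open Groth.Agent.Et18

noncomputable section

namespace Groth.Agent.BCPaste17

theorem isIso_of_covers {X : Scheme.{u}} {ι : Type u} (U : ι → X.Etale) (hU : EtCoh.Covers U) {A B : EtCoh.Ab X}
    (φ : A ⟶ B) (h : ∀ i, IsIso ((EtCoh.pull (U i).hom).map φ)) : IsIso φ := by
  choose i y hy using hU
  refine isIso_of_stalks_family
    (fun x : ULift.{u + 1} X => sepPoint ((U (i x.down)).left) (y x.down) ≫ (U (i x.down)).hom)
    (fun x => ⟨⟨x⟩, (congrArg (U (i x)).hom (sepPoint_default _ _)).trans (hy x)⟩) φ fun x => ?_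
  have := h (i x.down)
  exact (NatIso.isIso_map_iff (stalkPullIso (U (i x.down)).hom (sepPoint _ (y x.down))) φ).mp
    (inferInstanceAs (IsIso ((EtCoh.stalk (sepPoint _ (y x.down))).map ((EtCoh.pull (U (i x.down)).hom).map φ))))

theorem isIso_bcQ_congr {X S Y T : Scheme.{u}} (g : T ⟶ S) (h : Y ⟶ X) (f f' : X ⟶ S) (hf : f = f') (e e' : Y ⟶ T)
    (he : e = e') (w : e ≫ g = h ≫ f) (w' : e' ≫ g = h ≫ f') [PreservesFiniteLimits (EtCoh.pull e)]
    [PreservesFiniteLimits (EtCoh.pull e')] (F : EtCoh.Ab T) (q : ℕ) :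
    IsIso (EtBC.bcQ g f h e w q F) ↔ IsIso (EtBC.bcQ g f' h e' w' q F) := by
  subst hf he
  exact Iff.rfl

section

variable {X S Y T W Z : Scheme.{u}} (f : X ⟶ S) (g : T ⟶ S) (h : Y ⟶ X) (e : Y ⟶ T)
  (i : W ⟶ X) (j : Z ⟶ W) (k : Z ⟶ Y) (w₁ : e ≫ g = h ≫ f) (w₂ : k ≫ h = j ≫ i)
  (w₃ : (k ≫ e) ≫ g = j ≫ i ≫ f)
  [PreservesFiniteLimits (EtCoh.pull e)] [PreservesFiniteLimits (EtCoh.pull k)]
  [PreservesFiniteLimits (EtCoh.pull (k ≫ e))] (F : EtCoh.Ab T)

theorem bcQ_isIso_unpaste (q : ℕ) (h3 : IsIso (EtBC.bcQ g (i ≫ f) j (k ≫ e) w₃ q F))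
    (h2 : IsIso (EtBC.bcQ h i j k w₂ q ((EtCoh.pull e).obj F))) :
    IsIso ((EtCoh.pull i).map (EtBC.bcQ g f h e w₁ q F)) := by
  let adjC := ((EtCoh.pullPushAdj f).comp (EtCoh.pullPushAdj i)).ofNatIsoRight (EtCoh.pushComp f i)
  let adj := EtCoh.pullPushAdj (i ≫ f)
  let u := Adjunction.leftAdjointUniq adjC adj
  have hu : ∀ {A B} (x : A ⟶ (EtCoh.push (i ≫ f)).obj B),
      (adjC.homEquiv _ _).symm x = u.hom.app A ≫ (adj.homEquiv _ _).symm x := fun {A B} x => by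
    rw [Adjunction.homEquiv_counit, Adjunction.homEquiv_counit, ← reassoc_of% u.hom.naturality x,
      Adjunction.leftAdjointUniq_hom_app_counit]
    rfl
  have hA := bcQAdj_paste f g h e i j k w₁ w₂ w₃ F q
  have h' : (adjC.homEquiv _ _).symm (EtBC.bcQAdj g f h e w₁ q F ≫
      (EtCoh.push f).map (EtBC.bcQAdj h i j k w₂ q ((EtCoh.pull e).obj F)) ≫ (EtCoh.pushComp f i).hom.app _) =
      (EtCoh.pull i).map (EtBC.bcQ g f h e w₁ q F) ≫ EtBC.bcQ h i j k w₂ q ((EtCoh.pull e).obj F) := by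
    apply (adjC.homEquiv _ _).injective
    rw [Equiv.apply_symm_apply, adjC.homEquiv_unit]
    conv_lhs => rw [← Equiv.apply_symm_apply ((EtCoh.pullPushAdj f).homEquiv _ _) (EtBC.bcQAdj g f h e w₁ q F),
      ← Equiv.apply_symm_apply ((EtCoh.pullPushAdj i).homEquiv _ _) (EtBC.bcQAdj h i j k w₂ q ((EtCoh.pull e).obj F))]
    simp only [EtBC.bcQ, Adjunction.homEquiv_unit, Functor.map_comp, Category.assoc, adjC, Adjunction.ofNatIsoRight,
      Adjunction.comp_unit_app, NatTrans.comp_app, Functor.whiskerLeft_app, Functor.comp_map, Functor.comp_obj]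
    have n1 := fun {A B : EtCoh.Ab W} (x : A ⟶ B) => (EtCoh.pushComp f i).hom.naturality x
    simp only [Functor.comp_map, Functor.comp_obj] at n1
    rw [← reassoc_of% n1, ← n1, ← (EtCoh.push f).map_comp_assoc, ← (EtCoh.push f).map_comp_assoc]
    erw [(EtCoh.pullPushAdj i).unit.naturality]
    simp only [Functor.comp_map, Functor.map_comp, Category.assoc]
  rw [hA, hu, Adjunction.homEquiv_naturality_right_symm] at h'
  haveI := h3
  haveI := h2
  haveI : IsIso ((adj.homEquiv _ _).symm (EtBC.bcQAdj g (i ≫ f) j (k ≫ e) w₃ q F)) := h3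
  haveI : IsIso ((EtCoh.pull i).map (EtBC.bcQ g f h e w₁ q F) ≫ EtBC.bcQ h i j k w₂ q ((EtCoh.pull e).obj F)) := by
    rw [← h']
    infer_instance
  exact IsIso.of_isIso_comp_right _ (EtBC.bcQ h i j k w₂ q ((EtCoh.pull e).obj F))

end

theorem isIso_bcQ_of_etale' {X S X' S' : Scheme.{u}} (f : X ⟶ S) (g : S' ⟶ S) [Etale g] (f' : X' ⟶ S') (g' : X' ⟶ X)
    [Etale g'] (hc : IsPullback g' f' f g) [PreservesFiniteLimits (EtCoh.pull g')] (F : EtCoh.Ab X) (q : ℕ) :
    IsIso (EtBC.bcQ f g f' g' hc.w q F) :=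
  haveI := Et18.jCont g
  haveI := Et18.jCont g'
  isIso_bcQ_of_etale f g f' g' hc F q

theorem bcQ_isIso_of_etale_local {X S Y T : Scheme.{u}} (f : X ⟶ S) (g : T ⟶ S) (h : Y ⟶ X) (e : Y ⟶ T)
    (c : IsPullback e h g f) [PreservesFiniteLimits (EtCoh.pull e)] (F : EtCoh.Ab T) (q : ℕ)
    {ι : Type u} (U : ι → X.Etale) (hU : EtCoh.Covers U) (V : ι → S.Etale)
    (a : ∀ i, (U i).left ⟶ (V i).left) (ha : ∀ i, a i ≫ (V i).hom = (U i).hom ≫ f)
    (Ti Yi : ι → Scheme.{u}) (gi : ∀ i, Ti i ⟶ (V i).left) (ti : ∀ i, Ti i ⟶ T)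
    (cT : ∀ i, IsPullback (ti i) (gi i) g (V i).hom)
    (hi : ∀ i, Yi i ⟶ (U i).left) (ei : ∀ i, Yi i ⟶ Ti i) (cY : ∀ i, IsPullback (ei i) (hi i) (gi i) (a i))
    [∀ i, PreservesFiniteLimits (EtCoh.pull (ei i))]
    (hloc : ∀ i, IsIso (EtBC.bcQ (gi i) (a i) (hi i) (ei i) (cY i).w q ((EtCoh.pull (ti i)).obj F))) :
    IsIso (EtBC.bcQ g f h e c.w q F) := by
  refine isIso_of_covers U hU _ fun n => ?_
  have hV : Etale (V n).hom := (V n).prop
  have hUn : Etale (U n).hom := (U n).prop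
  have htn : Etale (ti n) := MorphismProperty.of_isPullback (P := @Etale) (cT n).flip hV
  have co : IsPullback (ei n ≫ ti n) (hi n) g (a n ≫ (V n).hom) := (cY n).paste_horiz (cT n)
  have wk : (ei n ≫ ti n) ≫ g = (hi n ≫ (U n).hom) ≫ f := by rw [co.w, ha n, Category.assoc]
  let k : Yi n ⟶ Y := c.lift (ei n ≫ ti n) (hi n ≫ (U n).hom) wk
  have ke : k ≫ e = ei n ≫ ti n := c.lift_fst _ _ _
  have kh : k ≫ h = hi n ≫ (U n).hom := c.lift_snd _ _ _
  have cU : IsPullback k (hi n) h (U n).hom := IsPullback.of_right (ke.symm ▸ ha n ▸ co) kh c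
  have hkn : Etale k := MorphismProperty.of_isPullback (P := @Etale) cU.flip hUn
  have e1 := isIso_bcQ_of_etale' g (V n).hom (gi n) (ti n) (cT n) F q
  have outer := bcQ_isIso_paste (V n).hom g (gi n) (ti n) (a n) (hi n) (ei n) (cT n).w (cY n).w co.w F q e1 (hloc n)
  have w3 : (k ≫ e) ≫ g = hi n ≫ (U n).hom ≫ f := by rw [ke, wk, Category.assoc]
  have outer' := (isIso_bcQ_congr g (hi n) _ ((U n).hom ≫ f) (ha n) _ (k ≫ e) ke.symm co.w w3 F q).1 outer
  exact bcQ_isIso_unpaste f g h e (U n).hom (hi n) k c.w cU.w w3 F q outer'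
    (isIso_bcQ_of_etale' h (U n).hom (hi n) k cU ((EtCoh.pull e).obj F) q)

end Groth.Agent.BCPaste17
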