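import Groth.Agent.BCPaste17.DPaste
import Groth.Agent.BCPaste17.EtaleLocal
import Groth.Agent.DCat.DerivedAdj

/-!
# Etale base change for derived direct images
-/

set_option autoImplicit false
set_option backward.isDefEq.respectTransparency false
set_option backward.isDefEq.respectTransparency.types false
set_option linter.style.haveILetI false
set_option linter.unusedSimpArgs false
set_option maxHeartbeats 1000000

universe u

open CategoryTheory CategoryTheory.Limits AlgebraicGeometry
open Groth.Agent.DCat Groth.Agent.Et18 Groth.Agent.Et18.RDCompD Groth.Agent.Et18.AcyclicN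

attribute [local instance] HasDerivedCategory.standard

noncomputable section

namespace Groth.Agent.BCPaste17

theorem hasRpushEt {A B : Scheme.{u}} (a : A ⟶ B) : DCoh.HasRpushEt A a :=
  hasRightDerivedFunctor_of_enoughKInj (enoughKInj_ab A) _

attribute [local instance] hasRpushEt

section Adjunction

variable {A B : Scheme.{u}} (a : A ⟶ B) [PreservesFiniteLimits (EtCoh.pull a)]

/-- The derived adjunction between inverse and direct image. -/
theorem exists_adjD : ∃ adj : EtBC.pullD a ⊣ DCoh.RpushEt A a,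
    ∀ K, adj.unit.app (DerivedCategory.Qh.obj K) ≫
      (DCoh.RpushEt A a).map ((EtCoh.pull a).mapDerivedCategoryFactorsh.hom.app K) =
      DerivedCategory.Qh.map ((adjHot (ComplexShape.up ℤ) (EtCoh.pullPushAdj a)).unit.app K) ≫
        (uF a).app ((hPull a).obj K) := by
  let W₁ := HomotopyCategory.quasiIso (EtCoh.Ab B) (ComplexShape.up ℤ)
  let W₂ := HomotopyCategory.quasiIso (EtCoh.Ab A) (ComplexShape.up ℤ)
  let α : DerivedCategory.Qh ⋙ EtBC.pullD a ⟶ hPull a ⋙ DerivedCategory.Qh :=
    (EtCoh.pull a).mapDerivedCategoryFactorsh.hom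
  let P₁ : ObjectProperty (HomotopyCategory (EtCoh.Ab B) (ComplexShape.up ℤ)) := fun _ => True
  have h₁ : ∀ X, ∃ (X' : _) (s : X' ⟶ X), P₁ X' ∧ W₁ s := fun X =>
    ⟨X, 𝟙 X, trivial, MorphismProperty.id_mem _ _⟩
  have hG : ∀ ⦃X Y : HomotopyCategory (EtCoh.Ab B) (ComplexShape.up ℤ)⦄ (s : X ⟶ Y), P₁ X → P₁ Y → W₁ s →
      IsIso ((hPull a ⋙ DerivedCategory.Qh).map s) := fun X Y s _ _ hs => by
    haveI : IsIso (DerivedCategory.Qh.map s) := Localization.inverts DerivedCategory.Qh W₁ s hs
    exact (NatIso.isIso_map_iff (EtCoh.pull a).mapDerivedCategoryFactorsh s).1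
      (inferInstanceAs (IsIso ((EtBC.pullD a).map (DerivedCategory.Qh.map s))))
  haveI : (EtBC.pullD a).IsLeftDerivedFunctor α W₁ := isLeftDerived_of_isIso h₁ hG α fun _ _ => inferInstance
  have hG' : ∀ ⦃X Y : HomotopyCategory (EtCoh.Ab B) (ComplexShape.up ℤ)⦄ (s : X ⟶ Y), P₁ X → P₁ Y → W₁ s →
      IsIso (((hPull a ⋙ DerivedCategory.Qh) ⋙ DCoh.RpushEt A a).map s) := fun X Y s hX hY hs => by
    haveI := hG s hX hY hs
    exact Functor.map_isIso _ ((hPull a ⋙ DerivedCategory.Qh).map s)
  let res := kInj_resolution (enoughKInj_ab A)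
  have hF' : ∀ ⦃X Y : HomotopyCategory (EtCoh.Ab A) (ComplexShape.up ℤ)⦄ (s : X ⟶ Y), kInj _ X → kInj _ Y → W₂ s →
      IsIso ((DCoh.pushEtKh A a ⋙ EtBC.pullD a).map s) := kInj_isIso_map _
  haveI : (EtBC.pullD a ⋙ DCoh.RpushEt A a).IsLeftDerivedFunctor
      ((Functor.associator _ _ _).inv ≫ Functor.whiskerRight α _) W₁ :=
    isLeftDerived_of_isIso h₁ hG' _ fun X _ => by
      dsimp
      infer_instance
  haveI : (DCoh.RpushEt A a ⋙ EtBC.pullD a).IsRightDerivedFunctor
      (Functor.whiskerRight (uF a) _ ≫ (Functor.associator _ _ _).hom) W₂ :=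
    isRightDerived_of_isIso res hF' _ fun X hX => by
      haveI := isIso_uF a hX
      dsimp
      infer_instance
  refine ⟨(adjHot (ComplexShape.up ℤ) (EtCoh.pullPushAdj a)).derived W₁ W₂ α (uF a), fun K => ?_⟩
  exact Adjunction.derivedη_fac_app _ W₁ α (uF a) K

end Adjunction

section Etale

variable {X S X' S' : Scheme.{u}} (f : X ⟶ S) (g : S' ⟶ S) [Etale g] (f' : X' ⟶ S') (g' : X' ⟶ X) [Etale g']
  (hc : IsPullback g' f' f g)

/-- The degree zero base change transformation. -/
def bc0 : EtCoh.push f ⋙ EtCoh.pull g ⟶ EtCoh.pull g' ⋙ EtCoh.push f' where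
  app I := ((EtCoh.pullPushAdj g).homEquiv _ _).symm ((EtBC.pushToPushPull f g f' g' hc.w).app I)
  naturality I J φ := by
    simp only [Functor.comp_map, Functor.comp_obj]
    rw [← Adjunction.homEquiv_naturality_left_symm, ← Adjunction.homEquiv_naturality_right_symm]
    exact congrArg _ ((EtBC.pushToPushPull f g f' g' hc.w).naturality φ)

theorem isIso_bc0 (I : EtCoh.Ab X) : IsIso ((bc0 f g f' g' hc).app I) := by
  haveI := Et18.jCont g
  haveI := Et18.jCont g'
  have e : (bc0 f g f' g' hc).app I = (pullRestrIso g).hom.app _ ≫ (restrPushIso g f g' f' hc).hom.app I ≫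
      (EtCoh.push f').map ((pullRestrIso g').inv.app I) := by
    refine (Equiv.symm_apply_eq _).2 ?_
    have hp : (EtBC.pushToPushPull f g f' g' hc.w).app I =
        (EtCoh.push f).map ((EtCoh.pullPushAdj g').unit.app I) ≫ (sq f g f' g' hc.w).app ((EtCoh.pull g').obj I) := by
      simp [EtBC.pushToPushPull, sq]
    have hu : (EtCoh.pullPushAdj g').unit.app I =
        (restrPushAdj g').unit.app I ≫ (EtCoh.push g').map ((pullRestrIso g').inv.app I) := by
      simp [pullRestrIso, Adjunction.leftAdjointUniq_inv_app, Adjunction.unit_leftAdjointUniq_hom_app]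
    have n1 := (sq f g f' g' hc.w).naturality ((pullRestrIso g').inv.app I)
    simp only [Functor.comp_map, Functor.comp_obj] at n1
    rw [hp, hu, Functor.map_comp, Category.assoc, n1, reassoc_of% sq_unit f g f' g' hc I]
    refine Eq.trans ?_ ((EtCoh.pullPushAdj g).homEquiv_unit _ _ _).symm
    simp [pullRestrIso]
  rw [e]
  infer_instance

theorem p2pH_eq (I : HomotopyCategory (EtCoh.Ab X) (ComplexShape.up ℤ)) :
    (EtBC.pushToPushPullH f g f' g' hc.w).app I =
      (adjHot (ComplexShape.up ℤ) (EtCoh.pullPushAdj g)).unit.app ((hPush f).obj I) ≫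
        (hPush g).map ((HomotopyCategory.quotient _ _).map
          ((NatTrans.mapHomologicalComplex (bc0 f g f' g' hc) (ComplexShape.up ℤ)).app I.as)) := by
  simp only [EtBC.pushToPushPullH, NatTrans.comp_app, Functor.whiskerLeft_app, compIso_refl_inv_app]
  have key : (NatTrans.mapHomologicalComplex (EtBC.pushToPushPull f g f' g' hc.w) (ComplexShape.up ℤ)).app I.as =
      ({ f := fun n => (EtCoh.pullPushAdj g).unit.app _
         comm' := fun i j _ => ((EtCoh.pullPushAdj g).unit.naturality _).symm } :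
        ((EtCoh.push f).mapHomologicalComplex (ComplexShape.up ℤ)).obj I.as ⟶
          ((EtCoh.push g).mapHomologicalComplex (ComplexShape.up ℤ)).obj (((EtCoh.pull g).mapHomologicalComplex _).obj
            (((EtCoh.push f).mapHomologicalComplex (ComplexShape.up ℤ)).obj I.as))) ≫
      ((EtCoh.push g).mapHomologicalComplex (ComplexShape.up ℤ)).map
        ((NatTrans.mapHomologicalComplex (bc0 f g f' g' hc) (ComplexShape.up ℤ)).app I.as) :=
    HomologicalComplex.hom_ext _ _ fun n => ((((EtCoh.pullPushAdj g).homEquiv _ _).apply_symm_apply _).symm).trans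
      ((EtCoh.pullPushAdj g).homEquiv_unit _ _ _)
  have k2 := congrArg (HomotopyCategory.quotient _ (ComplexShape.up ℤ)).map key
  simp only [Functor.map_comp] at k2
  exact k2

theorem isIso_bcMap_of_etale (adj : EtBC.pullD g ⊣ DCoh.RpushEt S' g) (K : DCoh.DEt X) :
    IsIso (EtBC.bcMap f g f' g' hc.w adj K) := by
  haveI := Et18.jCont g'
  obtain ⟨I, hI, ⟨a⟩⟩ := exists_kInj_iso K
  rw [isIso_bcMap_iff f g f' g' hc.w adj a]
  obtain ⟨adj', hunit⟩ := exists_adjD g
  haveI := Et18.extZero_preservesFiniteLimits g'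
  have hI' : kInj (EtCoh.Ab X') ((hPull g').obj I) := by
    haveI : CochainComplex.IsKInjective I.as := hI
    haveI : (EtShriek.extZero g').Additive := (EtShriek.extZeroAdj g').left_adjoint_additive
    haveI : PreservesFiniteColimits (EtShriek.extZero g') :=
      have : PreservesColimitsOfSize.{0, 0} (EtShriek.extZero g') := (EtShriek.extZeroAdj g').leftAdjoint_preservesColimits
      PreservesColimitsOfSize.preservesFiniteColimits _
    exact isKInjective_map_of_adj ((EtShriek.extZeroAdj g').ofNatIsoRight (pullRestrIso g').symm) I.as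
  haveI := isIso_uF f hI
  haveI := isIso_uF f' hI'
  let c := (HomotopyCategory.quotient _ _).map
    ((NatTrans.mapHomologicalComplex (bc0 f g f' g' hc) (ComplexShape.up ℤ)).app I.as)
  haveI : IsIso c := by
    haveI : ∀ n, IsIso (((NatTrans.mapHomologicalComplex (bc0 f g f' g' hc) (ComplexShape.up ℤ)).app I.as).f n) :=
      fun n => isIso_bc0 f g f' g' hc (I.as.X n)
    haveI := HomologicalComplex.Hom.isIso_of_components
      ((NatTrans.mapHomologicalComplex (bc0 f g f' g' hc) (ComplexShape.up ℤ)).app I.as)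
    infer_instance
  let y := (EtCoh.pull g).mapDerivedCategoryFactorsh.hom.app ((hPush f).obj I) ≫ DerivedCategory.Qh.map c ≫
    (uF f').app ((hPull g').obj I) ≫ (DCoh.RpushEt X' f').map ((EtCoh.pull g').mapDerivedCategoryFactorsh.inv.app I)
  haveI : IsIso y := inferInstanceAs (IsIso (_ ≫ _ ≫ _ ≫ _))
  have e : (EtBC.bcAdj f g f' g' hc.w).app (DerivedCategory.Qh.obj I) =
      adj'.homEquiv _ _ ((EtBC.pullD g).map (inv ((uF f).app I)) ≫ y) := by
    rw [Adjunction.homEquiv_naturality_left, IsIso.eq_inv_comp, uF_bcAdj, Adjunction.homEquiv_unit, p2pH_eq f g f' g' hc]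
    simp only [y, Functor.map_comp, Category.assoc]
    erw [reassoc_of% hunit ((hPush f).obj I)]
    refine congrArg (_ ≫ ·) ?_
    have n2 := (uF g).naturality c
    simp only [Functor.comp_map, Functor.comp_obj] at n2
    erw [reassoc_of% n2]
    rfl
  have h2 : EtBC.bcMap f g f' g' hc.w adj (DerivedCategory.Qh.obj I) =
      (Adjunction.leftAdjointUniq adj adj').hom.app _ ≫ (EtBC.pullD g).map (inv ((uF f).app I)) ≫ y := by
    rw [EtBC.bcMap, Equiv.symm_apply_eq, e, Adjunction.homEquiv_unit, Adjunction.homEquiv_unit, Functor.map_comp]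
    simp
  rw [h2]
  infer_instance

end Etale

end Groth.Agent.BCPaste17
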