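import Groth.Agent.BCPaste17.DEtale

/-!
# Derived base change morphisms are etale local
-/

set_option autoImplicit false
set_option backward.isDefEq.respectTransparency false
set_option backward.isDefEq.respectTransparency.types false
set_option linter.style.haveILetI false
set_option linter.unusedSimpArgs false
set_option maxHeartbeats 1000000

universe u

open CategoryTheory CategoryTheory.Limits AlgebraicGeometry Pretriangulated ZeroObject
open Groth.Agent.DCat Groth.Agent.Et18 Groth.Agent.Et18.RDCompD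

attribute [local instance] HasDerivedCategory.standard

noncomputable section

namespace Groth.Agent.BCPaste17

attribute [local instance] hasRpushEt

theorem isIso_of_covers_D {X : Scheme.{u}} {ι : Type u} (U : ι → X.Etale) (hU : EtCoh.Covers U)
    {A B : DCoh.DEt X} (φ : A ⟶ B) (h : ∀ i, IsIso ((EtBC.pullD (U i).hom).map φ)) : IsIso φ := by
  obtain ⟨Z, p, d, hT⟩ := distinguished_cocone_triangle φ
  refine ((Triangle.mk φ p d).isZero₃_iff_isIso₁ hT).1 ?_
  obtain ⟨K, ⟨e⟩⟩ : ∃ K, Nonempty (DerivedCategory.Q.obj K ≅ Z) :=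
    ⟨DerivedCategory.Q.objPreimage Z, ⟨DerivedCategory.Q.objObjPreimageIso Z⟩⟩
  have hK : ∀ n, IsZero (K.homology n) := fun n => by
    have hz : IsIso (0 : K.homology n ⟶ K.homology n) := by
      refine isIso_of_covers U hU _ fun i => ?_
      have hZ : IsZero ((EtBC.pullD (U i).hom).obj Z) := by
        haveI := h i
        exact Triangle.isZero₃_of_isIso₁ _ ((EtBC.pullD (U i).hom).map_distinguished _ hT) (h i)
      have h1 : IsZero (DerivedCategory.Q.obj (((EtCoh.pull (U i).hom).mapHomologicalComplex _).obj K)) :=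
        hZ.of_iso (((EtCoh.pull (U i).hom).mapDerivedCategoryFactors.app K).symm ≪≫ (EtBC.pullD (U i).hom).mapIso e)
      have h2 : IsZero ((((EtCoh.pull (U i).hom).mapHomologicalComplex _).obj K).homology n) :=
        ((DerivedCategory.homologyFunctor _ n).map_isZero h1).of_iso
          ((DerivedCategory.homologyFunctorFactors _ n).app _).symm
      have h3 : IsZero ((EtCoh.pull (U i).hom).obj (K.homology n)) :=
        h2.of_iso ((K.sc n).mapHomologyIso (EtCoh.pull (U i).hom)).symm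
      exact ⟨0, h3.eq_of_src _ _, h3.eq_of_src _ _⟩
    exact (IsZero.iff_id_eq_zero _).2 ((cancel_epi (0 : K.homology n ⟶ K.homology n)).1 (by simp))
  have : QuasiIso (0 : K ⟶ (0 : CochainComplex (EtCoh.Ab X) ℤ)) := ⟨fun n => by
    rw [quasiIsoAt_iff_isIso_homologyMap]
    have hz : IsZero ((0 : CochainComplex (EtCoh.Ab X) ℤ).homology n) :=
      (HomologicalComplex.homologyFunctor _ _ n).map_isZero (isZero_zero _)
    exact ⟨0, (hK n).eq_of_src _ _, hz.eq_of_src _ _⟩⟩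
  haveI : IsIso (DerivedCategory.Q.map (0 : K ⟶ (0 : CochainComplex (EtCoh.Ab X) ℤ))) := by rwa [DerivedCategory.isIso_Q_map_iff_quasiIso]
  exact ((DerivedCategory.Q.map_isZero (isZero_zero _)).of_iso
    (asIso (DerivedCategory.Q.map (0 : K ⟶ (0 : CochainComplex (EtCoh.Ab X) ℤ))))).of_iso e.symm

theorem exists_congr {X S Y T : Scheme.{u}} (g : T ⟶ S) (h : Y ⟶ X) (f f' : X ⟶ S) (hf : f = f') (e e' : Y ⟶ T)
    (he : e = e') (w : e ≫ g = h ≫ f) (w' : e' ≫ g = h ≫ f') [PreservesFiniteLimits (EtCoh.pull e)]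
    [PreservesFiniteLimits (EtCoh.pull e')] [PreservesFiniteLimits (EtCoh.pull f)] [PreservesFiniteLimits (EtCoh.pull f')]
    (adj : EtBC.pullD f ⊣ DCoh.RpushEt X f) (K : DCoh.DEt T) (hiso : IsIso (EtBC.bcMap g f h e w adj K)) :
    ∃ adj' : EtBC.pullD f' ⊣ DCoh.RpushEt X f', IsIso (EtBC.bcMap g f' h e' w' adj' K) := by
  subst hf he
  exact ⟨adj, hiso⟩

section

variable {X S Y T W Z : Scheme.{u}} (f : X ⟶ S) (g : T ⟶ S) (h : Y ⟶ X) (e : Y ⟶ T)
  (i : W ⟶ X) (j : Z ⟶ W) (k : Z ⟶ Y) (w₁ : e ≫ g = h ≫ f) (w₂ : k ≫ h = j ≫ i)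
  (w₃ : (k ≫ e) ≫ g = j ≫ i ≫ f)
  [PreservesFiniteLimits (EtCoh.pull e)] [PreservesFiniteLimits (EtCoh.pull k)]
  [PreservesFiniteLimits (EtCoh.pull (k ≫ e))] [PreservesFiniteLimits (EtCoh.pull f)] [PreservesFiniteLimits (EtCoh.pull i)]
  [PreservesFiniteLimits (EtCoh.pull (i ≫ f))]
  [DCoh.HasRpushEt T g] [DCoh.HasRpushEt Y h] [DCoh.HasRpushEt Z j] [DCoh.HasRpushEt X f]
  [DCoh.HasRpushEt W i] [DCoh.HasRpushEt W (i ≫ f)]

theorem bcMap_isIso_unpaste
    (adj₁ : EtBC.pullD f ⊣ DCoh.RpushEt X f) (adj₂ : EtBC.pullD i ⊣ DCoh.RpushEt W i)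
    (adj₃ : EtBC.pullD (i ≫ f) ⊣ DCoh.RpushEt W (i ≫ f)) (K : DCoh.DEt T)
    (h3 : IsIso (EtBC.bcMap g (i ≫ f) j (k ≫ e) w₃ adj₃ K))
    (h2 : IsIso (EtBC.bcMap h i j k w₂ adj₂ ((EtBC.pullD e).obj K))) :
    IsIso ((EtBC.pullD i).map (EtBC.bcMap g f h e w₁ adj₁ K)) := by
  obtain ⟨I, hI, ⟨a⟩⟩ := exists_kInj_iso K
  rw [isIso_bcMap_iff h i j k w₂ adj₂ ((EtBC.pullD e).mapIso a)] at h2
  rw [isIso_bcMap_iff g (i ≫ f) j (k ≫ e) w₃ adj₃ a] at h3
  haveI := isIso_compMap i f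
  let adjC := (adj₁.comp adj₂).ofNatIsoRight (asIso (EtSix.compMap i f)).symm
  let u := Adjunction.leftAdjointUniq adjC adj₃
  have hu : ∀ {A B} (x : A ⟶ (DCoh.RpushEt W (i ≫ f)).obj B),
      (adjC.homEquiv _ _).symm x = u.hom.app A ≫ (adj₃.homEquiv _ _).symm x := fun {A B} x => by
    rw [Adjunction.homEquiv_counit, Adjunction.homEquiv_counit, ← reassoc_of% u.hom.naturality x,
      Adjunction.leftAdjointUniq_hom_app_counit]
    rfl
  have hA := bcAdj_paste f g h e i j k w₁ w₂ w₃ I hI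
  have h' : (adjC.homEquiv _ _).symm ((EtBC.bcAdj g (i ≫ f) j (k ≫ e) w₃).app (DerivedCategory.Qh.obj I) ≫
        (DCoh.RpushEt W (i ≫ f)).map ((DCoh.RpushEt Z j).map (theta e k I).hom)) =
      (EtBC.pullD i).map (EtBC.bcMap g f h e w₁ adj₁ (DerivedCategory.Qh.obj I)) ≫
        EtBC.bcMap h i j k w₂ adj₂ ((EtBC.pullD e).obj (DerivedCategory.Qh.obj I)) := by
    apply (adjC.homEquiv _ _).injective
    rw [Equiv.apply_symm_apply, ← cancel_mono ((EtSix.compMap i f).app _), Category.assoc, ← hA, adjC.homEquiv_unit]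
    simp [EtBC.bcMap, adjC, Adjunction.ofNatIsoRight, Adjunction.comp_unit_app]
    rw [← (DCoh.RpushEt X f).map_comp_assoc]
    erw [← adj₂.unit.naturality]
    simp only [Functor.id_map, Functor.map_comp, Category.assoc]
    rw [← (DCoh.RpushEt X f).map_comp (adj₂.unit.app _), ← Category.assoc]
    erw [← adj₂.homEquiv_unit, Equiv.apply_symm_apply,
      ← adj₁.homEquiv_unit, Equiv.apply_symm_apply]
  rw [hu, Adjunction.homEquiv_naturality_right_symm] at h'
  haveI := h2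
  haveI : IsIso ((adj₃.homEquiv _ _).symm
      ((EtBC.bcAdj g (i ≫ f) j (k ≫ e) w₃).app (DerivedCategory.Qh.obj I))) := h3
  haveI : IsIso ((EtBC.pullD i).map (EtBC.bcMap g f h e w₁ adj₁ (DerivedCategory.Qh.obj I)) ≫
        EtBC.bcMap h i j k w₂ adj₂ ((EtBC.pullD e).obj (DerivedCategory.Qh.obj I))) := by
    rw [← h']
    infer_instance
  haveI : IsIso ((EtBC.pullD i).map (EtBC.bcMap g f h e w₁ adj₁ (DerivedCategory.Qh.obj I))) :=
    IsIso.of_isIso_comp_right _ (EtBC.bcMap h i j k w₂ adj₂ ((EtBC.pullD e).obj (DerivedCategory.Qh.obj I)))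
  have hn := bcMap_naturality g f h e w₁ adj₁ a.hom
  haveI : IsIso ((EtBC.pullD i).map (EtBC.bcMap g f h e w₁ adj₁ K ≫ (DCoh.RpushEt Y h).map ((EtBC.pullD e).map a.hom))) := by
    rw [← hn, Functor.map_comp]
    infer_instance
  rw [Functor.map_comp] at this
  exact IsIso.of_isIso_comp_right _ ((EtBC.pullD i).map ((DCoh.RpushEt Y h).map ((EtBC.pullD e).map a.hom)))

end

theorem bcMap_isIso_of_etale_local {X S Y T : Scheme.{u}} (f : X ⟶ S) (g : T ⟶ S) (h : Y ⟶ X) (e : Y ⟶ T)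
    (c : IsPullback e h g f) [PreservesFiniteLimits (EtCoh.pull e)] [PreservesFiniteLimits (EtCoh.pull f)]
    [DCoh.HasRpushEt T g] [DCoh.HasRpushEt Y h] [DCoh.HasRpushEt X f] (adj : EtBC.pullD f ⊣ DCoh.RpushEt X f)
    (K : DCoh.DEt T)
    {ι : Type u} (U : ι → X.Etale) (hU : EtCoh.Covers U) (V : ι → S.Etale)
    (a : ∀ i, (U i).left ⟶ (V i).left) (ha : ∀ i, a i ≫ (V i).hom = (U i).hom ≫ f)
    (Ti Yi : ι → Scheme.{u}) (gi : ∀ i, Ti i ⟶ (V i).left) (ti : ∀ i, Ti i ⟶ T)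
    (cT : ∀ i, IsPullback (ti i) (gi i) g (V i).hom)
    (hi : ∀ i, Yi i ⟶ (U i).left) (ei : ∀ i, Yi i ⟶ Ti i) (cY : ∀ i, IsPullback (ei i) (hi i) (gi i) (a i))
    [∀ i, PreservesFiniteLimits (EtCoh.pull (ei i))] [∀ i, PreservesFiniteLimits (EtCoh.pull (a i))]
    [∀ i, PreservesFiniteLimits (EtCoh.pull (ti i))]
    [∀ i, DCoh.HasRpushEt (Ti i) (gi i)] [∀ i, DCoh.HasRpushEt (Yi i) (hi i)] [∀ i, DCoh.HasRpushEt (U i).left (a i)]
    (adji : ∀ i, EtBC.pullD (a i) ⊣ DCoh.RpushEt (U i).left (a i))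
    (hloc : ∀ i, IsIso (EtBC.bcMap (gi i) (a i) (hi i) (ei i) (cY i).w (adji i) ((EtBC.pullD (ti i)).obj K))) :
    IsIso (EtBC.bcMap g f h e c.w adj K) := by
  refine isIso_of_covers_D U hU _ fun n => ?_
  have hV : Etale (V n).hom := (V n).prop
  have hUn : Etale (U n).hom := (U n).prop
  have htn : Etale (ti n) := MorphismProperty.of_isPullback (P := @Etale) (cT n).flip hV
  have co : IsPullback (ei n ≫ ti n) (hi n) g (a n ≫ (V n).hom) := (cY n).paste_horiz (cT n)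
  have wk : (ei n ≫ ti n) ≫ g = (hi n ≫ (U n).hom) ≫ f := by rw [co.w, ha n, Category.assoc]
  let k : Yi n ⟶ Y := c.lift (ei n ≫ ti n) (hi n ≫ (U n).hom) wk
  have ke : k ≫ e = ei n ≫ ti n := c.lift_fst _ _ _
  have kh : k ≫ h = hi n ≫ (U n).hom := c.lift_snd _ _ _
  have cU : IsPullback k (hi n) h (U n).hom := IsPullback.of_right (ke.symm ▸ ha n ▸ co) kh c
  have hkn : Etale k := MorphismProperty.of_isPullback (P := @Etale) cU.flip hUn
  obtain ⟨adjV, -⟩ := exists_adjD (V n).hom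
  obtain ⟨adjU, -⟩ := exists_adjD (U n).hom
  obtain ⟨adjaV, -⟩ := exists_adjD (a n ≫ (V n).hom)
  have e1 := isIso_bcMap_of_etale g (V n).hom (gi n) (ti n) (cT n) adjV K
  have outer := bcMap_isIso_paste (V n).hom g (gi n) (ti n) (a n) (hi n) (ei n) (cT n).w (cY n).w co.w adjV (adji n)
    adjaV K e1 (hloc n)
  have w3 : (k ≫ e) ≫ g = hi n ≫ (U n).hom ≫ f := by rw [ke, wk, Category.assoc]
  obtain ⟨adj', outer'⟩ := exists_congr g (hi n) _ ((U n).hom ≫ f) (ha n) _ (k ≫ e) ke.symm co.w w3 adjaV K outer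
  exact bcMap_isIso_unpaste f g h e (U n).hom (hi n) k c.w cU.w w3 adj adjU adj' K outer'
    (isIso_bcMap_of_etale h (U n).hom (hi n) k cU adjU ((EtBC.pullD e).obj K))

end Groth.Agent.BCPaste17
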