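import Groth.Agent.BCPaste17.DPasteAux

/-!
# Pasting of derived base change morphisms
-/

set_option autoImplicit false
set_option backward.isDefEq.respectTransparency false
set_option backward.isDefEq.respectTransparency.types false
set_option linter.style.haveILetI false
set_option linter.unusedSectionVars false
set_option maxHeartbeats 1000000

universe u

open CategoryTheory CategoryTheory.Limits AlgebraicGeometry
open Groth.Agent.DCat Groth.Agent.Et18.RDCompD

attribute [local instance] HasDerivedCategory.standard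

noncomputable section

namespace Groth.Agent.BCPaste17

variable {X S Y T W Z : Scheme.{u}} (f : X ⟶ S) (g : T ⟶ S) (h : Y ⟶ X) (e : Y ⟶ T)
  (i : W ⟶ X) (j : Z ⟶ W) (k : Z ⟶ Y) (w₁ : e ≫ g = h ≫ f) (w₂ : k ≫ h = j ≫ i)
  (w₃ : (k ≫ e) ≫ g = j ≫ i ≫ f)
  [PreservesFiniteLimits (EtCoh.pull e)] [PreservesFiniteLimits (EtCoh.pull k)]
  [PreservesFiniteLimits (EtCoh.pull (k ≫ e))]

variable [PreservesFiniteLimits (EtCoh.pull f)] [PreservesFiniteLimits (EtCoh.pull i)]
  [PreservesFiniteLimits (EtCoh.pull (i ≫ f))]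
  [DCoh.HasRpushEt T g] [DCoh.HasRpushEt Y h] [DCoh.HasRpushEt Z j] [DCoh.HasRpushEt X f]
  [DCoh.HasRpushEt W i] [DCoh.HasRpushEt W (i ≫ f)]

/-- The comparison of the two inverse images at a complex. -/
def theta (I : HomotopyCategory (EtCoh.Ab T) (ComplexShape.up ℤ)) :
    (EtBC.pullD (k ≫ e)).obj (DerivedCategory.Qh.obj I) ≅
      (EtBC.pullD k).obj ((EtBC.pullD e).obj (DerivedCategory.Qh.obj I)) :=
  (EtCoh.pull (k ≫ e)).mapDerivedCategoryFactorsh.app I ≪≫
    DerivedCategory.Qh.mapIso ((HomotopyCategory.quotient _ _).mapIso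
        ((NatIso.mapHomologicalComplex (EtCore.pullComp k e) (ComplexShape.up ℤ)).app I.as) ≪≫
      ((Functor.mapHomotopyCategoryCompIso (Iso.refl (EtCoh.pull e ⋙ EtCoh.pull k)) (ComplexShape.up ℤ)).symm.app I)) ≪≫
    ((EtCoh.pull k).mapDerivedCategoryFactorsh.app ((hPull e).obj I)).symm ≪≫
    (EtBC.pullD k).mapIso ((EtCoh.pull e).mapDerivedCategoryFactorsh.app I).symm

theorem theta_hom (I : HomotopyCategory (EtCoh.Ab T) (ComplexShape.up ℤ)) :
    (theta e k I).hom = (EtCoh.pull (k ≫ e)).mapDerivedCategoryFactorsh.hom.app I ≫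
      DerivedCategory.Qh.map (eH e k I) ≫
        (EtCoh.pull k).mapDerivedCategoryFactorsh.inv.app ((hPull e).obj I) ≫
          (EtBC.pullD k).map ((EtCoh.pull e).mapDerivedCategoryFactorsh.inv.app I) := rfl

theorem bcAdj_paste (I : HomotopyCategory (EtCoh.Ab T) (ComplexShape.up ℤ)) (hI : kInj (EtCoh.Ab T) I) :
    (EtBC.bcAdj g f h e w₁).app (DerivedCategory.Qh.obj I) ≫
        (DCoh.RpushEt X f).map ((EtBC.bcAdj h i j k w₂).app ((EtBC.pullD e).obj (DerivedCategory.Qh.obj I))) =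
      (EtBC.bcAdj g (i ≫ f) j (k ≫ e) w₃).app (DerivedCategory.Qh.obj I) ≫
        (DCoh.RpushEt W (i ≫ f)).map ((DCoh.RpushEt Z j).map (theta e k I).hom) ≫
        (EtSix.compMap i f).app _ := by
  haveI := isIso_uF g hI
  rw [← cancel_epi ((uF g).app I)]
  have nat1 := (EtBC.bcAdj h i j k w₂).naturality ((EtCoh.pull e).mapDerivedCategoryFactorsh.inv.app I)
  simp only [Functor.comp_map, Functor.comp_obj] at nat1
  have cm : ∀ M, (uF (i ≫ f)).app M ≫ (EtSix.compMap i f).app (DerivedCategory.Qh.obj M) =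
      DerivedCategory.Qh.map (pH f i M) ≫
        (uF f).app ((hPush i).obj M) ≫ (DCoh.RpushEt X f).map ((uF i).app M) := fun M => by
    rw [EtSix.compMap, Functor.rightDerived_fac_app]
    dsimp [EtSix.compUnit, pH]
    simp
  have hθ : (uF j).app ((hPull (k ≫ e)).obj I) ≫ (DCoh.RpushEt Z j).map
      ((EtCoh.pull (k ≫ e)).mapDerivedCategoryFactorsh.inv.app I) ≫ (DCoh.RpushEt Z j).map (theta e k I).hom =
      DerivedCategory.Qh.map ((hPush j).map (eH e k I)) ≫ (uF j).app ((hPull k).obj ((hPull e).obj I)) ≫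
        (DCoh.RpushEt Z j).map ((EtCoh.pull k).mapDerivedCategoryFactorsh.inv.app ((hPull e).obj I)) ≫
          (DCoh.RpushEt Z j).map ((EtBC.pullD k).map ((EtCoh.pull e).mapDerivedCategoryFactorsh.inv.app I)) := by
    have nj := (uF j).naturality (eH e k I)
    simp only [Functor.comp_map] at nj
    rw [reassoc_of% nj, theta_hom, ← Functor.map_comp, Iso.inv_hom_id_app_assoc, Functor.map_comp, Functor.map_comp]
  rw [reassoc_of% uF_bcAdj g f h e w₁ I, reassoc_of% uF_bcAdj g (i ≫ f) j (k ≫ e) w₃ I]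
  rw [← (DCoh.RpushEt W (i ≫ f)).map_comp_assoc, Category.assoc, hθ]
  simp only [Functor.map_comp, Category.assoc]
  rw [← (DCoh.RpushEt X f).map_comp ((DCoh.RpushEt Y h).map _), nat1, Functor.map_comp,
    ← (DCoh.RpushEt X f).map_comp_assoc ((uF h).app _), uF_bcAdj h i j k w₂]
  simp only [Functor.map_comp, Category.assoc]
  have nf := (uF f).naturality ((EtBC.pushToPushPullH h i j k w₂).app ((hPull e).obj I))
  simp only [Functor.comp_map] at nf
  rw [← reassoc_of% nf, ← Functor.map_comp_assoc, p2pH_paste f g h e i j k w₁ w₂ w₃ I]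
  simp only [Functor.map_comp, Category.assoc]
  have nif := (uF (i ≫ f)).naturality ((hPush j).map (eH e k I))
  simp only [Functor.comp_map] at nif
  have ncm := fun {A B : DCoh.DEt W} (a : A ⟶ B) => (EtSix.compMap i f).naturality a
  simp only [Functor.comp_map] at ncm
  rw [← reassoc_of% nif, ncm, reassoc_of% ncm, reassoc_of% ncm, reassoc_of% cm]

theorem bcMap_isIso_paste
    (adj₁ : EtBC.pullD f ⊣ DCoh.RpushEt X f) (adj₂ : EtBC.pullD i ⊣ DCoh.RpushEt W i)
    (adj₃ : EtBC.pullD (i ≫ f) ⊣ DCoh.RpushEt W (i ≫ f)) (K : DCoh.DEt T)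
    (h1 : IsIso (EtBC.bcMap g f h e w₁ adj₁ K))
    (h2 : IsIso (EtBC.bcMap h i j k w₂ adj₂ ((EtBC.pullD e).obj K))) :
    IsIso (EtBC.bcMap g (i ≫ f) j (k ≫ e) w₃ adj₃ K) := by
  obtain ⟨I, hI, ⟨a⟩⟩ := exists_kInj_iso K
  rw [isIso_bcMap_iff g f h e w₁ adj₁ a] at h1
  rw [isIso_bcMap_iff h i j k w₂ adj₂ ((EtBC.pullD e).mapIso a)] at h2
  rw [isIso_bcMap_iff g (i ≫ f) j (k ≫ e) w₃ adj₃ a]
  haveI := isIso_compMap i f
  let adjC := (adj₁.comp adj₂).ofNatIsoRight (asIso (EtSix.compMap i f)).symm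
  let u := Adjunction.leftAdjointUniq adjC adj₃
  have hu : ∀ {A B} (x : A ⟶ (DCoh.RpushEt W (i ≫ f)).obj B),
      (adjC.homEquiv _ _).symm x = u.hom.app A ≫ (adj₃.homEquiv _ _).symm x := fun {A B} x => by
    rw [Adjunction.homEquiv_counit, Adjunction.homEquiv_counit, ← reassoc_of% u.hom.naturality x,
      Adjunction.leftAdjointUniq_hom_app_counit]
    rfl
  have hA := bcAdj_paste f g h e i j k w₁ w₂ w₃ I hI
  have h' : (adjC.homEquiv _ _).symm ((EtBC.bcAdj g (i ≫ f) j (k ≫ e) w₃).app (DerivedCategory.Qh.obj I) ≫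
        (DCoh.RpushEt W (i ≫ f)).map ((DCoh.RpushEt Z j).map (theta e k I).hom)) =
      (EtBC.pullD i).map (EtBC.bcMap g f h e w₁ adj₁ (DerivedCategory.Qh.obj I)) ≫
        EtBC.bcMap h i j k w₂ adj₂ ((EtBC.pullD e).obj (DerivedCategory.Qh.obj I)) := by
    apply (adjC.homEquiv _ _).injective
    rw [Equiv.apply_symm_apply, ← cancel_mono ((EtSix.compMap i f).app _), Category.assoc, ← hA, adjC.homEquiv_unit]
    simp [EtBC.bcMap, adjC, Adjunction.ofNatIsoRight, Adjunction.comp_unit_app]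
    rw [← (DCoh.RpushEt X f).map_comp_assoc]
    erw [← adj₂.unit.naturality]
    simp only [Functor.id_map, Functor.map_comp, Category.assoc]
    rw [← (DCoh.RpushEt X f).map_comp (adj₂.unit.app _), ← Category.assoc]
    erw [← adj₂.homEquiv_unit, Equiv.apply_symm_apply,
      ← adj₁.homEquiv_unit, Equiv.apply_symm_apply]
  rw [hu, Adjunction.homEquiv_naturality_right_symm] at h'
  haveI := h1
  haveI := h2
  have hiso : IsIso (u.hom.app _ ≫ (adj₃.homEquiv _ _).symm
      ((EtBC.bcAdj g (i ≫ f) j (k ≫ e) w₃).app (DerivedCategory.Qh.obj I)) ≫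
        (DCoh.RpushEt Z j).map (theta e k I).hom) := by
    rw [h']
    infer_instance
  haveI : IsIso ((adj₃.homEquiv _ _).symm
      ((EtBC.bcAdj g (i ≫ f) j (k ≫ e) w₃).app (DerivedCategory.Qh.obj I)) ≫
        (DCoh.RpushEt Z j).map (theta e k I).hom) := IsIso.of_isIso_comp_left (u.hom.app _) _
  exact IsIso.of_isIso_comp_right ((adj₃.homEquiv _ _).symm
      ((EtBC.bcAdj g (i ≫ f) j (k ≫ e) w₃).app (DerivedCategory.Qh.obj I)))
    ((DCoh.RpushEt Z j).map (theta e k I).hom)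

end Groth.Agent.BCPaste17
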