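import Groth.Agent.BCPaste17.Paste
import Groth.Agent.Et18.RDCompD
import Groth.Prelude.Def_EtBCD

/-!
# Pasting of derived base change morphisms
-/

set_option autoImplicit false
set_option backward.isDefEq.respectTransparency false
set_option backward.isDefEq.respectTransparency.types false
set_option linter.style.haveILetI false
set_option linter.unusedSectionVars false
set_option maxHeartbeats 1000000

universe u

open CategoryTheory CategoryTheory.Limits AlgebraicGeometry
open Groth.Agent.DCat Groth.Agent.Et18.RDCompD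

attribute [local instance] HasDerivedCategory.standard

noncomputable section

namespace Groth.Agent.BCPaste17

/-- The unit of the derived direct image. -/
abbrev uF {A B : Scheme.{u}} (a : A ⟶ B) [DCoh.HasRpushEt A a] :=
  (DCoh.pushEtKh A a).totalRightDerivedUnit DerivedCategory.Qh
    (HomotopyCategory.quasiIso (EtCoh.Ab A) (ComplexShape.up ℤ))

theorem isIso_uF {A B : Scheme.{u}} (a : A ⟶ B) [DCoh.HasRpushEt A a]
    {I : HomotopyCategory (EtCoh.Ab A) (ComplexShape.up ℤ)} (hI : kInj (EtCoh.Ab A) I) :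
    IsIso ((uF a).app I) :=
  isIso_unit_of_mem (kInj_resolution (enoughKInj_ab A)) (kInj_isIso_map _) _ hI

theorem exists_kInj_iso {A : Scheme.{u}} (K : DCoh.DEt A) :
    ∃ I : HomotopyCategory (EtCoh.Ab A) (ComplexShape.up ℤ), kInj (EtCoh.Ab A) I ∧
      Nonempty (K ≅ DerivedCategory.Qh.obj I) := by
  haveI : (DerivedCategory.Qh (C := EtCoh.Ab A)).EssSurj :=
    Localization.essSurj DerivedCategory.Qh (HomotopyCategory.quasiIso (EtCoh.Ab A) (ComplexShape.up ℤ))
  obtain ⟨I, s, hI, hs⟩ := kInj_resolution (enoughKInj_ab A) (DerivedCategory.Qh.objPreimage K)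
  haveI : IsIso (DerivedCategory.Qh.map s) :=
    Localization.inverts DerivedCategory.Qh (HomotopyCategory.quasiIso (EtCoh.Ab A) (ComplexShape.up ℤ)) s hs
  exact ⟨I, hI, ⟨(DerivedCategory.Qh.objObjPreimageIso K).symm ≪≫ asIso (DerivedCategory.Qh.map s)⟩⟩

section Square

variable {X S X' S' : Scheme.{u}} (f : X ⟶ S) (g : S' ⟶ S) (f' : X' ⟶ S') (g' : X' ⟶ X)
  (w : g' ≫ f = f' ≫ g) [PreservesFiniteLimits (EtCoh.pull g')] [DCoh.HasRpushEt X f]
  [DCoh.HasRpushEt X' f'] [DCoh.HasRpushEt S' g]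

/-- The action of the inverse image on homotopy categories. -/
abbrev hPull {A B : Scheme.{u}} (a : A ⟶ B) := (EtCoh.pull a).mapHomotopyCategory (ComplexShape.up ℤ)

/-- The action of the direct image on homotopy categories. -/
abbrev hPush {A B : Scheme.{u}} (a : A ⟶ B) := (EtCoh.push a).mapHomotopyCategory (ComplexShape.up ℤ)

theorem uF_bcAdj (K : HomotopyCategory (EtCoh.Ab X) (ComplexShape.up ℤ)) :
    (uF f).app K ≫ (EtBC.bcAdj f g f' g' w).app (DerivedCategory.Qh.obj K) =
      DerivedCategory.Qh.map ((EtBC.pushToPushPullH f g f' g' w).app K) ≫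
        (uF g).app ((hPush f').obj ((hPull g').obj K)) ≫
        (DCoh.RpushEt S' g).map ((uF f').app ((hPull g').obj K) ≫
          (DCoh.RpushEt X' f').map ((EtCoh.pull g').mapDerivedCategoryFactorsh.inv.app K)) := by
  rw [EtBC.bcAdj, Functor.rightDerived_fac_app]
  dsimp [EtBC.bcUnit]
  simp

theorem bcMap_naturality [PreservesFiniteLimits (EtCoh.pull g)] (adj : EtBC.pullD g ⊣ DCoh.RpushEt S' g)
    {K K' : DCoh.DEt X} (a : K ⟶ K') :
    (EtBC.pullD g).map ((DCoh.RpushEt X f).map a) ≫ EtBC.bcMap f g f' g' w adj K' =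
      EtBC.bcMap f g f' g' w adj K ≫ (DCoh.RpushEt X' f').map ((EtBC.pullD g').map a) := by
  rw [EtBC.bcMap, EtBC.bcMap, ← Adjunction.homEquiv_naturality_left_symm, ← Adjunction.homEquiv_naturality_right_symm]
  exact congrArg _ ((EtBC.bcAdj f g f' g' w).naturality a)

theorem isIso_bcMap_iff [PreservesFiniteLimits (EtCoh.pull g)] (adj : EtBC.pullD g ⊣ DCoh.RpushEt S' g)
    {K K' : DCoh.DEt X} (a : K ≅ K') :
    IsIso (EtBC.bcMap f g f' g' w adj K) ↔ IsIso (EtBC.bcMap f g f' g' w adj K') := by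
  have h := bcMap_naturality f g f' g' w adj a.hom
  constructor <;> intro
  · have : IsIso ((EtBC.pullD g).map ((DCoh.RpushEt X f).map a.hom) ≫ EtBC.bcMap f g f' g' w adj K') := by
      rw [h]; infer_instance
    exact IsIso.of_isIso_comp_left ((EtBC.pullD g).map ((DCoh.RpushEt X f).map a.hom)) _
  · have : IsIso (EtBC.bcMap f g f' g' w adj K ≫ (DCoh.RpushEt X' f').map ((EtBC.pullD g').map a.hom)) := by
      rw [← h]; infer_instance
    exact IsIso.of_isIso_comp_right _ ((DCoh.RpushEt X' f').map ((EtBC.pullD g').map a.hom))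

end Square

variable {X S Y T W Z : Scheme.{u}} (f : X ⟶ S) (g : T ⟶ S) (h : Y ⟶ X) (e : Y ⟶ T)
  (i : W ⟶ X) (j : Z ⟶ W) (k : Z ⟶ Y) (w₁ : e ≫ g = h ≫ f) (w₂ : k ≫ h = j ≫ i)
  (w₃ : (k ≫ e) ≫ g = j ≫ i ≫ f)
  [PreservesFiniteLimits (EtCoh.pull e)] [PreservesFiniteLimits (EtCoh.pull k)]
  [PreservesFiniteLimits (EtCoh.pull (k ≫ e))]

theorem p2p_paste (M : EtCoh.Ab T) :
    (EtBC.pushToPushPull g f h e w₁).app M ≫
        (EtCoh.push f).map ((EtBC.pushToPushPull h i j k w₂).app ((EtCoh.pull e).obj M)) =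
      (EtBC.pushToPushPull g (i ≫ f) j (k ≫ e) w₃).app M ≫
        (EtCoh.push (i ≫ f)).map ((EtCoh.push j).map ((EtCore.pullComp k e).hom.app M)) ≫
        (EtCoh.pushComp f i).inv.app _ := by
  have hp : ∀ {X S X' S' : Scheme.{u}} (f : X ⟶ S) (g : S' ⟶ S) (f' : X' ⟶ S') (g' : X' ⟶ X)
      (w : g' ≫ f = f' ≫ g) (M : EtCoh.Ab X), (EtBC.pushToPushPull f g f' g' w).app M =
        (EtCoh.push f).map ((EtCoh.pullPushAdj g').unit.app M) ≫ (sq f g f' g' w).app ((EtCoh.pull g').obj M) := by
    intros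
    simp [EtBC.pushToPushPull, sq]
  rw [← cancel_mono ((EtCoh.pushComp f i).hom.app _)]
  simp only [hp, Functor.map_comp, Category.assoc]
  erw [Iso.inv_hom_id_app, Category.comp_id]
  have n1 := (sq g f h e w₁).naturality ((EtCoh.pullPushAdj k).unit.app ((EtCoh.pull e).obj M))
  have n2 := (sq g (i ≫ f) j (k ≫ e) w₃).naturality ((EtCore.pullComp k e).hom.app M)
  simp only [Functor.comp_map, Functor.comp_obj] at n1 n2
  erw [← reassoc_of% n1, sq_paste f g h e i j k w₁ w₂ w₃, ← n2]
  simp only [← Functor.map_comp_assoc, Category.assoc]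
  rw [unit_compat e k M, Category.assoc]

theorem compIso_refl_inv_app {A B C : Scheme.{u}} (F : EtCoh.Ab A ⥤ EtCoh.Ab B) (G : EtCoh.Ab B ⥤ EtCoh.Ab C)
    [F.Additive] [G.Additive] (K : HomotopyCategory (EtCoh.Ab A) (ComplexShape.up ℤ)) :
    (Functor.mapHomotopyCategoryCompIso (Iso.refl (F ⋙ G)) (ComplexShape.up ℤ)).inv.app K =
      𝟙 (((F ⋙ G).mapHomotopyCategory (ComplexShape.up ℤ)).obj K) := by
  refine (congrArg (HomotopyCategory.quotient _ _).map ?_).trans ((HomotopyCategory.quotient _ _).map_id _)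
  exact HomologicalComplex.hom_ext _ _ fun n => rfl

/-- The comparison of the inverse images on homotopy categories. -/
def eH (I : HomotopyCategory (EtCoh.Ab T) (ComplexShape.up ℤ)) :
    (hPull (k ≫ e)).obj I ⟶ (hPull k).obj ((hPull e).obj I) :=
  (NatTrans.mapHomotopyCategory (EtCore.pullComp k e).hom (ComplexShape.up ℤ) ≫
    (Functor.mapHomotopyCategoryCompIso (Iso.refl (EtCoh.pull e ⋙ EtCoh.pull k)) (ComplexShape.up ℤ)).inv).app I

/-- The comparison of the direct images on homotopy categories. -/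
def pH (M : HomotopyCategory (EtCoh.Ab W) (ComplexShape.up ℤ)) :
    (hPush (i ≫ f)).obj M ⟶ (hPush f).obj ((hPush i).obj M) :=
  (NatTrans.mapHomotopyCategory (EtCoh.pushComp f i).inv (ComplexShape.up ℤ) ≫
    (Functor.mapHomotopyCategoryCompIso (Iso.refl (EtCoh.push i ⋙ EtCoh.push f)) (ComplexShape.up ℤ)).inv).app M

theorem p2pH_paste (I : HomotopyCategory (EtCoh.Ab T) (ComplexShape.up ℤ)) :
    (EtBC.pushToPushPullH g f h e w₁).app I ≫
        (hPush f).map ((EtBC.pushToPushPullH h i j k w₂).app ((hPull e).obj I)) =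
      (EtBC.pushToPushPullH g (i ≫ f) j (k ≫ e) w₃).app I ≫
        (hPush (i ≫ f)).map ((hPush j).map (eH e k I)) ≫
        pH f i ((hPush j).obj ((hPull k).obj ((hPull e).obj I))) := by
  simp only [EtBC.pushToPushPullH, eH, pH, NatTrans.comp_app, Functor.whiskerLeft_app, compIso_refl_inv_app]
  erw [Category.comp_id, Category.comp_id, Category.comp_id]
  have key : (NatTrans.mapHomologicalComplex (EtBC.pushToPushPull g f h e w₁) (ComplexShape.up ℤ)).app I.as ≫
      ((EtCoh.push f).mapHomologicalComplex (ComplexShape.up ℤ)).map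
        ((NatTrans.mapHomologicalComplex (EtBC.pushToPushPull h i j k w₂) (ComplexShape.up ℤ)).app
          (((EtCoh.pull e).mapHomologicalComplex (ComplexShape.up ℤ)).obj I.as)) =
      (NatTrans.mapHomologicalComplex (EtBC.pushToPushPull g (i ≫ f) j (k ≫ e) w₃) (ComplexShape.up ℤ)).app I.as ≫
        ((EtCoh.push (i ≫ f)).mapHomologicalComplex (ComplexShape.up ℤ)).map
          (((EtCoh.push j).mapHomologicalComplex (ComplexShape.up ℤ)).map
            ((NatTrans.mapHomologicalComplex (EtCore.pullComp k e).hom (ComplexShape.up ℤ)).app I.as)) ≫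
        (NatTrans.mapHomologicalComplex (EtCoh.pushComp f i).inv (ComplexShape.up ℤ)).app
          (((EtCoh.push j).mapHomologicalComplex (ComplexShape.up ℤ)).obj
            (((EtCoh.pull k).mapHomologicalComplex (ComplexShape.up ℤ)).obj
              (((EtCoh.pull e).mapHomologicalComplex (ComplexShape.up ℤ)).obj I.as))) :=
    HomologicalComplex.hom_ext _ _ fun n => p2p_paste f g h e i j k w₁ w₂ w₃ (I.as.X n)
  have k2 := congrArg (HomotopyCategory.quotient _ (ComplexShape.up ℤ)).map key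
  simp only [Functor.map_comp] at k2
  exact k2

end Groth.Agent.BCPaste17
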