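import Groth.Agent.BCPaste17.Square
import Groth.Prelude.Def_EtCore

/-!
# Pasting of base change maps in degree `q`
-/

set_option autoImplicit false
set_option backward.isDefEq.respectTransparency false
set_option backward.isDefEq.respectTransparency.types false
set_option linter.style.haveILetI false
set_option linter.unusedSimpArgs false
set_option maxHeartbeats 1000000

universe u

open CategoryTheory CategoryTheory.Limits AlgebraicGeometry HomologicalComplex Opposite

noncomputable section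

namespace Groth.Agent.BCPaste17

variable {X S Y T W Z : Scheme.{u}} (f : X ⟶ S) (g : T ⟶ S) (h : Y ⟶ X) (e : Y ⟶ T)
  (i : W ⟶ X) (j : Z ⟶ W) (k : Z ⟶ Y) (w₁ : e ≫ g = h ≫ f) (w₂ : k ≫ h = j ≫ i)
  (w₃ : (k ≫ e) ≫ g = j ≫ i ≫ f)

theorem hom_ext_bc {A B : Scheme.{u}} (a : A ⟶ B) {V : A.Etale} (U : B.Etale) (p q : V ⟶ (EtCoh.bc a).obj U)
    (hpq : p.left ≫ pullback.fst U.hom a = q.left ≫ pullback.fst U.hom a) : p = q :=
  (Scheme.Etale.forget A ⋙ CategoryTheory.Over.forget A).map_injective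
    (pullback.hom_ext hpq ((MorphismProperty.Over.w p).trans (MorphismProperty.Over.w q).symm))

theorem pushComp_hom_app {A B C : Scheme.{u}} (a : A ⟶ B) (b : B ⟶ C) (M : EtCoh.Ab A) (V : C.Etale) :
    ((EtCoh.pushComp b a).hom.app M).hom.app (op V) =
      M.obj.map ((MorphismProperty.Over.pullbackComp (P := EtCoh.etaleMP) (Q := ⊤) a b).hom.app V).op := rfl

theorem pushComp_inv_app {A B C : Scheme.{u}} (a : A ⟶ B) (b : B ⟶ C) (M : EtCoh.Ab A) (V : C.Etale) :
    ((EtCoh.pushComp b a).inv.app M).hom.app (op V) =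
      M.obj.map ((MorphismProperty.Over.pullbackComp (P := EtCoh.etaleMP) (Q := ⊤) a b).inv.app V).op := rfl

theorem pushCongr_hom_app {A B : Scheme.{u}} {a a' : A ⟶ B} (ha : a = a') (M : EtCoh.Ab A) (V : B.Etale) :
    ((EtCoh.pushCongr ha).hom.app M).hom.app (op V) =
      M.obj.map ((MorphismProperty.Over.pullbackCongr (P := EtCoh.etaleMP) (Q := ⊤) ha).inv.app V).op := rfl

@[simp, reassoc]
theorem congr_inv_fst {A B : Scheme.{u}} {a a' : A ⟶ B} (ha : a = a') (V : B.Etale) :
    ((MorphismProperty.Over.pullbackCongr (P := EtCoh.etaleMP) (Q := ⊤) ha).inv.app V).left ≫ pullback.fst V.hom a =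
      pullback.fst V.hom a' := by
  subst ha
  simp [MorphismProperty.Over.pullbackCongr]
  exact Category.id_comp _

@[simp, reassoc]
theorem congr_inv_snd {A B : Scheme.{u}} {a a' : A ⟶ B} (ha : a = a') (V : B.Etale) :
    ((MorphismProperty.Over.pullbackCongr (P := EtCoh.etaleMP) (Q := ⊤) ha).inv.app V).left ≫ pullback.snd V.hom a =
      pullback.snd V.hom a' := by
  subst ha
  simp [MorphismProperty.Over.pullbackCongr]
  exact Category.id_comp _

@[simp, reassoc]
theorem bc_map_fst {A B : Scheme.{u}} (a : A ⟶ B) {U V : B.Etale} (p : U ⟶ V) :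
    ((MorphismProperty.Over.pullback EtCoh.etaleMP ⊤ a).map p).left ≫ pullback.fst V.hom a = pullback.fst U.hom a ≫ p.left :=
  pullback.lift_fst _ _ _

@[simp, reassoc]
theorem bc_map_snd {A B : Scheme.{u}} (a : A ⟶ B) {U V : B.Etale} (p : U ⟶ V) :
    ((MorphismProperty.Over.pullback EtCoh.etaleMP ⊤ a).map p).left ≫ pullback.snd V.hom a = pullback.snd U.hom a :=
  pullback.lift_snd _ _ _

@[simp, reassoc]
theorem pcomp_hom_fst {A B C : Scheme.{u}} (a : A ⟶ B) (b : B ⟶ C) (V : C.Etale) :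
    ((MorphismProperty.Over.pullbackComp (P := EtCoh.etaleMP) (Q := ⊤) a b).hom.app V).left ≫
      pullback.fst ((MorphismProperty.Over.pullback EtCoh.etaleMP ⊤ b).obj V).hom a ≫ pullback.fst V.hom b = pullback.fst V.hom (a ≫ b) :=
  MorphismProperty.Over.pullbackComp_left_fst_fst a b V

@[simp, reassoc]
theorem pcomp_hom_snd {A B C : Scheme.{u}} (a : A ⟶ B) (b : B ⟶ C) (V : C.Etale) :
    ((MorphismProperty.Over.pullbackComp (P := EtCoh.etaleMP) (Q := ⊤) a b).hom.app V).left ≫
      pullback.snd ((MorphismProperty.Over.pullback EtCoh.etaleMP ⊤ b).obj V).hom a = pullback.snd V.hom (a ≫ b) :=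
  MorphismProperty.Over.w ((MorphismProperty.Over.pullbackComp (P := EtCoh.etaleMP) (Q := ⊤) a b).hom.app V)

@[simp, reassoc]
theorem pcomp_inv_fst {A B C : Scheme.{u}} (a : A ⟶ B) (b : B ⟶ C) (V : C.Etale) :
    ((MorphismProperty.Over.pullbackComp (P := EtCoh.etaleMP) (Q := ⊤) a b).inv.app V).left ≫
      pullback.fst V.hom (a ≫ b) = pullback.fst ((MorphismProperty.Over.pullback EtCoh.etaleMP ⊤ b).obj V).hom a ≫ pullback.fst V.hom b := by
  rw [← pcomp_hom_fst, ← Category.assoc, ← MorphismProperty.Comma.comp_left, Iso.inv_hom_id_app]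
  exact Category.id_comp _

@[simp, reassoc]
theorem pcomp_inv_snd {A B C : Scheme.{u}} (a : A ⟶ B) (b : B ⟶ C) (V : C.Etale) :
    ((MorphismProperty.Over.pullbackComp (P := EtCoh.etaleMP) (Q := ⊤) a b).inv.app V).left ≫
      pullback.snd V.hom (a ≫ b) = pullback.snd ((MorphismProperty.Over.pullback EtCoh.etaleMP ⊤ b).obj V).hom a :=
  MorphismProperty.Over.w ((MorphismProperty.Over.pullbackComp (P := EtCoh.etaleMP) (Q := ⊤) a b).inv.app V)

@[reassoc]
theorem fst_snd {A B C : Scheme.{u}} (a : A ⟶ B) (b : B ⟶ C) (V : C.Etale) :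
    pullback.fst ((MorphismProperty.Over.pullback EtCoh.etaleMP ⊤ b).obj V).hom a ≫ pullback.snd V.hom b =
      pullback.snd ((MorphismProperty.Over.pullback EtCoh.etaleMP ⊤ b).obj V).hom a ≫ a :=
  pullback.condition

theorem left_comp {A : Scheme.{u}} {U V W' : A.Etale} (p : U ⟶ V) (q : V ⟶ W') :
    (p ≫ q).left = p.left ≫ q.left := rfl

theorem sq_paste (N : EtCoh.Ab Z) :
    (sq g f h e w₁).app ((EtCoh.push k).obj N) ≫ (EtCoh.push f).map ((sq h i j k w₂).app N) ≫
        (EtCoh.pushComp f i).hom.app ((EtCoh.push j).obj N) =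
      (EtCoh.push g).map ((EtCoh.pushComp e k).hom.app N) ≫ (sq g (i ≫ f) j (k ≫ e) w₃).app N := by
  refine InducedCategory.hom_ext (NatTrans.ext (funext fun V' => ?_))
  obtain ⟨V⟩ := V'
  show (((EtCoh.pushComp g e).hom.app ((EtCoh.push k).obj N)).hom.app (op V) ≫ ((EtCoh.pushCongr w₁).hom.app ((EtCoh.push k).obj N)).hom.app (op V) ≫
      ((EtCoh.pushComp f h).inv.app ((EtCoh.push k).obj N)).hom.app (op V)) ≫
      (((EtCoh.pushComp h k).hom.app N).hom.app (op ((EtCoh.bc f).obj V)) ≫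
      ((EtCoh.pushCongr w₂).hom.app N).hom.app (op ((EtCoh.bc f).obj V)) ≫
      ((EtCoh.pushComp i j).inv.app N).hom.app (op ((EtCoh.bc f).obj V))) ≫
      ((EtCoh.pushComp f i).hom.app ((EtCoh.push j).obj N)).hom.app (op V) =
    ((EtCoh.pushComp e k).hom.app N).hom.app (op ((EtCoh.bc g).obj V)) ≫
      ((EtCoh.pushComp g (k ≫ e)).hom.app N).hom.app (op V) ≫ ((EtCoh.pushCongr w₃).hom.app N).hom.app (op V) ≫
      ((EtCoh.pushComp (i ≫ f) j).inv.app N).hom.app (op V)
  rw [pushComp_hom_app, pushCongr_hom_app, pushComp_inv_app, pushComp_hom_app, pushCongr_hom_app, pushComp_inv_app]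
  simp only [pushComp_hom_app, pushCongr_hom_app, pushComp_inv_app]
  show (N.obj.map ((EtCoh.bc k).map _).op ≫ N.obj.map ((EtCoh.bc k).map _).op ≫ N.obj.map ((EtCoh.bc k).map _).op) ≫
      (N.obj.map _ ≫ N.obj.map _ ≫ N.obj.map _) ≫ N.obj.map ((EtCoh.bc j).map _).op = _
  simp only [← Functor.map_comp, ← op_comp, Category.assoc]
  refine congrArg (fun m => N.obj.map (Quiver.Hom.op m)) ?_
  refine hom_ext_bc _ _ _ _ (pullback.hom_ext (pullback.hom_ext ?_ ?_) ?_)
  all_goals
    simp only [EtCoh.bc, Quiver.Hom.unop_op, Functor.comp_obj, left_comp, Category.assoc, bc_map_fst, bc_map_fst_assoc, bc_map_snd, bc_map_snd_assoc, pcomp_hom_fst,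
      pcomp_hom_fst_assoc, pcomp_hom_snd, pcomp_hom_snd_assoc, pcomp_inv_fst, pcomp_inv_fst_assoc, pcomp_inv_snd,
      pcomp_inv_snd_assoc, congr_inv_fst, congr_inv_fst_assoc, congr_inv_snd, congr_inv_snd_assoc, fst_snd, fst_snd_assoc]
    erw [left_comp, left_comp, left_comp]
    simp only [Category.assoc, pcomp_hom_fst,
      pcomp_hom_fst_assoc, pcomp_hom_snd, pcomp_hom_snd_assoc, pcomp_inv_fst, pcomp_inv_fst_assoc, pcomp_inv_snd,
      pcomp_inv_snd_assoc, congr_inv_fst, congr_inv_fst_assoc, congr_inv_snd, congr_inv_snd_assoc, fst_snd, fst_snd_assoc]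

variable [PreservesFiniteLimits (EtCoh.pull e)] [PreservesFiniteLimits (EtCoh.pull k)]
  [PreservesFiniteLimits (EtCoh.pull (k ≫ e))] (F : EtCoh.Ab T)

theorem unit_compat :
    (EtCoh.pullPushAdj (k ≫ e)).unit.app F ≫ (EtCoh.push (k ≫ e)).map ((EtCore.pullComp k e).hom.app F) =
      ((EtCoh.pullPushAdj e).unit.app F ≫ (EtCoh.push e).map ((EtCoh.pullPushAdj k).unit.app _)) ≫
        (EtCoh.pushComp e k).hom.app _ := by
  refine ((Adjunction.homEquiv_unit (EtCoh.pullPushAdj (k ≫ e)) _ _ _).symm.trans ?_)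
  refine (Adjunction.homEquiv_leftAdjointUniq_hom_app (EtCoh.pullPushAdj (k ≫ e))
    (((EtCoh.pullPushAdj e).comp (EtCoh.pullPushAdj k)).ofNatIsoRight (EtCoh.pushComp e k)) F).trans ?_
  simp [Adjunction.ofNatIsoRight, Adjunction.comp_unit_app]

/-- The comparison map of resolutions of `(k e)⁻¹ F` and `k⁻¹ e⁻¹ F`. -/
def eps : (injectiveResolution ((EtCoh.pull (k ≫ e)).obj F)).cocomplex ⟶
    (injectiveResolution ((EtCoh.pull k).obj ((EtCoh.pull e).obj F))).cocomplex :=
  InjectiveResolution.desc ((EtCore.pullComp k e).hom.app F) _ _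

theorem gam_paste (Φ : EtCoh.Ab T ⥤ EtCoh.Ab S) [Φ.Additive] (q : ℕ) :
    homologyMap ((Φ.mapHomologicalComplex _).map (gam e F ≫
        ((EtCoh.push e).mapHomologicalComplex _).map (gam k ((EtCoh.pull e).obj F)) ≫
          (NatTrans.mapHomologicalComplex (EtCoh.pushComp e k).hom (ComplexShape.up ℕ)).app _)) q =
      homologyMap ((Φ.mapHomologicalComplex _).map (gam (k ≫ e) F ≫
        ((EtCoh.push (k ≫ e)).mapHomologicalComplex _).map (eps e k F))) q := by
  refine homologyMap_eq_of_ι _ _ Φ _ _ ?_ q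
  simp only [comp_f, Functor.mapHomologicalComplex_map_f, NatTrans.mapHomologicalComplex_app_f]
  rw [reassoc_of% gam_zero (g' := e) F, reassoc_of% gam_zero (g' := k ≫ e) F, ← Functor.map_comp_assoc, gam_zero,
    ← Functor.map_comp, eps, InjectiveResolution.desc_commutes_zero, Functor.map_comp, Functor.map_comp,
    reassoc_of% unit_compat e k F]
  simp only [Category.assoc]
  erw [(EtCoh.pushComp e k).hom.naturality]

theorem bcQAdj_paste (q : ℕ) :
    EtBC.bcQAdj g f h e w₁ q F ≫ (EtCoh.push f).map (EtBC.bcQAdj h i j k w₂ q ((EtCoh.pull e).obj F)) ≫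
        (EtCoh.pushComp f i).hom.app _ =
      EtBC.bcQAdj g (i ≫ f) j (k ≫ e) w₃ q F ≫
        (EtCoh.push (i ≫ f)).map ((EtCoh.Rpush j q).map ((EtCore.pullComp k e).hom.app F)) := by
  let G := (EtCoh.pull k).obj ((EtCoh.pull e).obj F)
  let J := injectiveResolution G
  let J' := injectiveResolution ((EtCoh.pull (k ≫ e)).obj F)
  let Pj := (EtCoh.push j).mapHomologicalComplex (ComplexShape.up ℕ)
  haveI : PreservesFiniteLimits (EtCoh.push i ⋙ EtCoh.push f) := comp_preservesFiniteLimits _ _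
  have hj : (J'.isoRightDerivedObj (EtCoh.push j) q).inv ≫
      (EtCoh.Rpush j q).map ((EtCore.pullComp k e).hom.app F) =
      homologyMap (Pj.map (eps e k F)) q ≫ (J.isoRightDerivedObj (EtCoh.push j) q).inv := by
    have := InjectiveResolution.isoRightDerivedObj_hom_naturality ((EtCore.pullComp k e).hom.app F) J' J
      (eps e k F) (InjectiveResolution.desc_commutes_zero _ _ _) (EtCoh.push j) q
    rw [Iso.inv_comp_eq, ← Category.assoc, Iso.eq_comp_inv]
    exact this
  have hN : homologyMap (num g f h e w₁ F ≫ ((EtCoh.push f).mapHomologicalComplex _).map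
        (num h i j k w₂ ((EtCoh.pull e).obj F)) ≫
        (NatTrans.mapHomologicalComplex (EtCoh.pushComp f i).hom (ComplexShape.up ℕ)).app (Pj.obj J.cocomplex)) q =
      homologyMap (num g (i ≫ f) j (k ≫ e) w₃ F ≫
        ((EtCoh.push (i ≫ f)).mapHomologicalComplex _).map (Pj.map (eps e k F))) q := by
    have e1 : num g f h e w₁ F ≫ ((EtCoh.push f).mapHomologicalComplex _).map
        (num h i j k w₂ ((EtCoh.pull e).obj F)) ≫
        (NatTrans.mapHomologicalComplex (EtCoh.pushComp f i).hom (ComplexShape.up ℕ)).app (Pj.obj J.cocomplex) =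
        ((EtCoh.push g).mapHomologicalComplex _).map (gam e F ≫
          ((EtCoh.push e).mapHomologicalComplex _).map (gam k ((EtCoh.pull e).obj F)) ≫
            (NatTrans.mapHomologicalComplex (EtCoh.pushComp e k).hom (ComplexShape.up ℕ)).app _) ≫
          (NatTrans.mapHomologicalComplex (sq g (i ≫ f) j (k ≫ e) w₃) (ComplexShape.up ℕ)).app J.cocomplex := by
      refine HomologicalComplex.hom_ext _ _ fun n => ?_
      simp only [num, Pj, comp_f, Functor.mapHomologicalComplex_map_f, NatTrans.mapHomologicalComplex_app_f,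
        Functor.map_comp, Category.assoc]
      refine congrArg (_ ≫ ·) ?_
      erw [← reassoc_of% (sq g f h e w₁).naturality ((gam k ((EtCoh.pull e).obj F)).f n)]
      refine congrArg (_ ≫ ·) ?_
      exact sq_paste f g h e i j k w₁ w₂ w₃ _
    have e2 : num g (i ≫ f) j (k ≫ e) w₃ F ≫
        ((EtCoh.push (i ≫ f)).mapHomologicalComplex _).map (Pj.map (eps e k F)) =
        ((EtCoh.push g).mapHomologicalComplex _).map (gam (k ≫ e) F ≫
          ((EtCoh.push (k ≫ e)).mapHomologicalComplex _).map (eps e k F)) ≫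
          (NatTrans.mapHomologicalComplex (sq g (i ≫ f) j (k ≫ e) w₃) (ComplexShape.up ℕ)).app J.cocomplex := by
      refine HomologicalComplex.hom_ext _ _ fun n => ?_
      simp only [num, Pj, comp_f, Functor.mapHomologicalComplex_map_f, NatTrans.mapHomologicalComplex_app_f,
        Functor.map_comp, Category.assoc]
      refine congrArg (_ ≫ ·) ?_
      exact ((sq g (i ≫ f) j (k ≫ e) w₃).naturality ((eps e k F).f n)).symm
    rw [e1, e2, homologyMap_comp, homologyMap_comp, gam_paste]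
  have nat1 := cmp_naturality q (EtCoh.push f) (num h i j k w₂ ((EtCoh.pull e).obj F))
  have nat2 := cmp_natTrans q (EtCoh.pushComp f i).hom (Pj.obj J.cocomplex)
  have nat3 := cmp_naturality q (EtCoh.push (i ≫ f)) (Pj.map (eps e k F))
  rw [bcQAdj_eq, bcQAdj_eq, bcQAdj_eq]
  simp only [Functor.map_comp, Category.assoc, Iso.map_inv_hom_id_assoc]
  rw [← (EtCoh.push (i ≫ f)).map_comp, hj, Functor.map_comp, ← reassoc_of% nat3, ← homologyMap_comp_assoc, ← hN,
    homologyMap_comp, homologyMap_comp]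
  simp only [Category.assoc]
  rw [reassoc_of% nat2, ← reassoc_of% nat1]
  refine congrArg (_ ≫ ·) (congrArg (_ ≫ ·) (congrArg (_ ≫ ·) ?_))
  erw [← (EtCoh.pushComp f i).hom.naturality, ← reassoc_of% cmp_comp q (EtCoh.push i) (EtCoh.push f) (Pj.obj J.cocomplex)]
  rfl

theorem bcQ_isIso_paste (q : ℕ) (h1 : IsIso (EtBC.bcQ g f h e w₁ q F))
    (h2 : IsIso (EtBC.bcQ h i j k w₂ q ((EtCoh.pull e).obj F))) :
    IsIso (EtBC.bcQ g (i ≫ f) j (k ≫ e) w₃ q F) := by
  let adjC := ((EtCoh.pullPushAdj f).comp (EtCoh.pullPushAdj i)).ofNatIsoRight (EtCoh.pushComp f i)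
  let adj := EtCoh.pullPushAdj (i ≫ f)
  let u := Adjunction.leftAdjointUniq adjC adj
  have hu : ∀ {A B} (x : A ⟶ (EtCoh.push (i ≫ f)).obj B),
      (adjC.homEquiv _ _).symm x = u.hom.app A ≫ (adj.homEquiv _ _).symm x := fun {A B} x => by
    rw [Adjunction.homEquiv_counit, Adjunction.homEquiv_counit, ← reassoc_of% u.hom.naturality x,
      Adjunction.leftAdjointUniq_hom_app_counit]
    rfl
  have hA := bcQAdj_paste f g h e i j k w₁ w₂ w₃ F q
  have h' : (adjC.homEquiv _ _).symm (EtBC.bcQAdj g f h e w₁ q F ≫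
      (EtCoh.push f).map (EtBC.bcQAdj h i j k w₂ q ((EtCoh.pull e).obj F)) ≫ (EtCoh.pushComp f i).hom.app _) =
      (EtCoh.pull i).map (EtBC.bcQ g f h e w₁ q F) ≫ EtBC.bcQ h i j k w₂ q ((EtCoh.pull e).obj F) := by
    apply (adjC.homEquiv _ _).injective
    rw [Equiv.apply_symm_apply, adjC.homEquiv_unit]
    conv_lhs => rw [← Equiv.apply_symm_apply ((EtCoh.pullPushAdj f).homEquiv _ _) (EtBC.bcQAdj g f h e w₁ q F),
      ← Equiv.apply_symm_apply ((EtCoh.pullPushAdj i).homEquiv _ _) (EtBC.bcQAdj h i j k w₂ q ((EtCoh.pull e).obj F))]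
    simp only [EtBC.bcQ, Adjunction.homEquiv_unit, Functor.map_comp, Category.assoc, adjC, Adjunction.ofNatIsoRight,
      Adjunction.comp_unit_app, NatTrans.comp_app, Functor.whiskerLeft_app, Functor.comp_map, Functor.comp_obj]
    have n1 := fun {A B : EtCoh.Ab W} (x : A ⟶ B) => (EtCoh.pushComp f i).hom.naturality x
    simp only [Functor.comp_map, Functor.comp_obj] at n1
    rw [← reassoc_of% n1, ← n1, ← (EtCoh.push f).map_comp_assoc, ← (EtCoh.push f).map_comp_assoc]
    erw [(EtCoh.pullPushAdj i).unit.naturality]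
    simp only [Functor.comp_map, Functor.map_comp, Category.assoc]
  rw [hA, hu, Adjunction.homEquiv_naturality_right_symm] at h'
  haveI := h1
  haveI := h2
  have hiso : IsIso (u.hom.app ((EtCoh.Rpush g q).obj F) ≫
      (adj.homEquiv _ _).symm (EtBC.bcQAdj g (i ≫ f) j (k ≫ e) w₃ q F) ≫
      (EtCoh.Rpush j q).map ((EtCore.pullComp k e).hom.app F)) := by
    rw [h']
    infer_instance
  haveI := hiso
  haveI : IsIso ((adj.homEquiv _ _).symm (EtBC.bcQAdj g (i ≫ f) j (k ≫ e) w₃ q F) ≫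
      (EtCoh.Rpush j q).map ((EtCore.pullComp k e).hom.app F)) := IsIso.of_isIso_comp_left (u.hom.app _) _
  exact IsIso.of_isIso_comp_right ((adj.homEquiv _ _).symm (EtBC.bcQAdj g (i ≫ f) j (k ≫ e) w₃ q F))
    ((EtCoh.Rpush j q).map ((EtCore.pullComp k e).hom.app F))

end Groth.Agent.BCPaste17
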