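import Groth.Prelude.Def_EtBC2
import Groth.Agent.BCPaste17.Comparison

/-!
# The base change map in degree `q` computed on injective resolutions
-/

set_option autoImplicit false
set_option backward.isDefEq.respectTransparency false
set_option backward.isDefEq.respectTransparency.types false
set_option linter.style.haveILetI false

universe u

open CategoryTheory CategoryTheory.Limits AlgebraicGeometry HomologicalComplex

noncomputable section

namespace Groth.Agent.BCPaste17

variable {X S X' S' : Scheme.{u}} (f : X ⟶ S) (g : S' ⟶ S) (f' : X' ⟶ S') (g' : X' ⟶ X) (w : g' ≫ f = f' ≫ g)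

/-- `f_* g'_* ⟶ g_* f'_*`. -/
def sq : EtCoh.push g' ⋙ EtCoh.push f ⟶ EtCoh.push f' ⋙ EtCoh.push g :=
  (EtCoh.pushComp f g' ≪≫ EtCoh.pushCongr w ≪≫ (EtCoh.pushComp g f').symm).hom

variable [PreservesFiniteLimits (EtCoh.pull g')] (F : EtCoh.Ab X)

/-- The chosen map of resolutions `I ⟶ g'_* J` over the unit. -/
def gam : (injectiveResolution F).cocomplex ⟶
    ((EtCoh.push g').mapHomologicalComplex _).obj (injectiveResolution ((EtCoh.pull g').obj F)).cocomplex :=
  InjectiveResolution.desc ((EtCoh.pullPushAdj g').unit.app F)
      (injectiveResolution ((EtCoh.push g').obj ((EtCoh.pull g').obj F))) (injectiveResolution F) ≫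
    RDer.descToInjectives (𝟙 _) (injectiveResolution ((EtCoh.push g').obj ((EtCoh.pull g').obj F))).cocomplex
      (injectiveResolution ((EtCoh.push g').obj ((EtCoh.pull g').obj F))).ι
      (((EtCoh.push g').mapHomologicalComplex _).obj (injectiveResolution ((EtCoh.pull g').obj F)).cocomplex)
      (RDer.mapAug (EtCoh.push g') (injectiveResolution ((EtCoh.pull g').obj F)).ι)

theorem gam_zero : (injectiveResolution F).ι.f 0 ≫ (gam g' F).f 0 =
    (EtCoh.pullPushAdj g').unit.app F ≫ (EtCoh.push g').map ((injectiveResolution ((EtCoh.pull g').obj F)).ι.f 0) := by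
  rw [gam, comp_f, ← Category.assoc, InjectiveResolution.desc_commutes_zero]
  erw [Category.assoc, RDer.ι_descToInjectives_f_zero]
  simp [RDer.mapAug, HomologicalComplex.singleMapHomologicalComplex]

/-- The map of complexes `f_* I ⟶ g_* f'_* J`. -/
def num : ((EtCoh.push f).mapHomologicalComplex _).obj (injectiveResolution F).cocomplex ⟶
    ((EtCoh.push g).mapHomologicalComplex _).obj (((EtCoh.push f').mapHomologicalComplex _).obj
      (injectiveResolution ((EtCoh.pull g').obj F)).cocomplex) :=
  ((EtCoh.push f).mapHomologicalComplex _).map (gam g' F) ≫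
    (NatTrans.mapHomologicalComplex (sq f g f' g' w) (ComplexShape.up ℕ)).app (injectiveResolution ((EtCoh.pull g').obj F)).cocomplex

theorem bcQAdj_eq (q : ℕ) :
    EtBC.bcQAdj f g f' g' w q F =
      ((injectiveResolution F).isoRightDerivedObj (EtCoh.push f) q).hom ≫
        homologyMap (num f g f' g' w F) q ≫
          RDer.homologyComparison (EtCoh.push g) (((EtCoh.push f').mapHomologicalComplex _).obj
            (injectiveResolution ((EtCoh.pull g').obj F)).cocomplex) q ≫
            (EtCoh.push g).map ((injectiveResolution ((EtCoh.pull g').obj F)).isoRightDerivedObj (EtCoh.push f') q).inv := by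
  have h1 := InjectiveResolution.isoRightDerivedObj_hom_naturality ((EtCoh.pullPushAdj g').unit.app F)
    (injectiveResolution F) (injectiveResolution ((EtCoh.push g').obj ((EtCoh.pull g').obj F)))
    (InjectiveResolution.desc ((EtCoh.pullPushAdj g').unit.app F)
      (injectiveResolution ((EtCoh.push g').obj ((EtCoh.pull g').obj F))) (injectiveResolution F))
    (InjectiveResolution.desc_commutes_zero _ _ _) (EtCoh.push f) q
  rw [num, gam, Functor.map_comp, homologyMap_comp, homologyMap_comp]
  simp only [EtBC.bcQAdj, EtCoh.Rpush, RDer.edgeIn, RDer.edgeOut, EtBC.RpushSquareIso, RDer.rightDerivedIso, Category.assoc]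
  rw [InjectiveResolution.rightDerived_app_eq _ (injectiveResolution ((EtCoh.pull g').obj F))]
  simp only [Category.assoc, Iso.inv_hom_id_assoc]
  rw [reassoc_of% h1]
  rfl

end Groth.Agent.BCPaste17
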